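import Groth.Agent.LG86.Lin

/-!
# Families complementary to standard vectors: determinants, Grassmannian points
-/

set_option autoImplicit false

universe u

open TensorProduct

noncomputable section

namespace Groth.Agent.LG86

variable {k : Type u} [CommRing k] {d r : ℕ}

theorem ch_repr {A B : Type u} [CommRing A] [Algebra k A] [CommRing B] [Algebra k B] (φ : A →ₐ[k] B)
    (y : M (k := k) A d) (c : Fin d) : (stdB B d).repr (ch φ y) c = φ ((stdB A d).repr y c) := by
  have h2 : ch φ y = ∑ c, φ ((stdB A d).repr y c) • stdB B d c := by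
    conv_lhs => rw [← (stdB A d).sum_repr y]
    simp only [map_sum, ch_smul, ch_stdB]
  rw [h2, Module.Basis.repr_sum_self]

theorem ch_injective {A B : Type u} [CommRing A] [Algebra k A] [CommRing B] [Algebra k B] (φ : A →ₐ[k] B)
    (hφ : Function.Injective φ) : Function.Injective (ch (d := d) φ) := fun y z h =>
  (stdB A d).ext_elem fun c => hφ (by rw [← ch_repr, h, ch_repr])

theorem neg_smul' {A : Type u} [CommRing A] [Algebra k A] (a : A) (x : M (k := k) A d) : (-a) • x = -(a • x) :=
  neg_smul a x

theorem sub_smul' {A : Type u} [CommRing A] [Algebra k A] (a b : A) (x : M (k := k) A d) :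
    (a - b) • x = a • x - b • x := sub_smul a b x

theorem sum_smul' {A : Type u} [CommRing A] [Algebra k A] {ι : Type*} (s : Finset ι) (a : ι → A) (x : M (k := k) A d) :
    (∑ i ∈ s, a i) • x = ∑ i ∈ s, a i • x := Finset.sum_smul

/-- Splitting the indices of a basis. -/
def eSum (hrd : r ≤ d) : Fin d ≃ Fin r ⊕ Fin (d - r) := (finCongr (by omega)).trans finSumFinEquiv.symm

/-- A family `v` completed by standard vectors. -/
def fam {A : Type u} [CommRing A] [Algebra k A] (v : Fin r → M (k := k) A d) (κ : Fin (d - r) → Fin d) :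
    Fin r ⊕ Fin (d - r) → M (k := k) A d :=
  Sum.elim v fun b => stdB A d (κ b)

/-- The determinant of `v` completed by standard vectors. -/
def dt (hrd : r ≤ d) {A : Type u} [CommRing A] [Algebra k A] (v : Fin r → M (k := k) A d) (κ : Fin (d - r) → Fin d) : A :=
  ((stdB (k := k) A d).reindex (eSum hrd)).det (fam v κ)

theorem map_dt (hrd : r ≤ d) {A B : Type u} [CommRing A] [Algebra k A] [CommRing B] [Algebra k B] (φ : A →ₐ[k] B)
    (v : Fin r → M (k := k) A d) (κ : Fin (d - r) → Fin d) :
    φ (dt hrd v κ) = dt hrd (fun a => ch φ (v a)) κ := by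
  rw [dt, dt, Module.Basis.det_apply, Module.Basis.det_apply, AlgHom.map_det]
  congr 1
  ext i j
  simp only [AlgHom.mapMatrix_apply, Matrix.map_apply, Module.Basis.toMatrix_apply,
    Module.Basis.repr_reindex, Finsupp.mapDomain_equiv_apply]
  rcases j with a | b
  · simp [fam, ch_repr]
  · simp only [fam, Sum.elim_inr]
    rw [← ch_repr, ch_stdB]

section Unit

variable {hrd : r ≤ d} {A : Type u} [CommRing A] [Algebra k A] {v : Fin r → M (k := k) A d} {κ : Fin (d - r) → Fin d}

/-- The basis given by a unit determinant. -/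
def bas (h : IsUnit (dt hrd v κ)) : Module.Basis (Fin r ⊕ Fin (d - r)) A (M (k := k) A d) :=
  Module.Basis.mk ((Module.Basis.is_basis_iff_det _).mpr h).1 ((Module.Basis.is_basis_iff_det _).mpr h).2.ge

theorem bas_apply (h : IsUnit (dt hrd v κ)) (i : Fin r ⊕ Fin (d - r)) : bas h i = fam v κ i :=
  Module.Basis.mk_apply _ _ _

theorem decomp (h : IsUnit (dt hrd v κ)) (z : M (k := k) A d) :
    z = (∑ a, (bas h).repr z (Sum.inl a) • v a) + ∑ b, (bas h).repr z (Sum.inr b) • stdB A d (κ b) := by
  conv_lhs => rw [← (bas h).sum_repr z, Fintype.sum_sum_type]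
  simp [bas_apply, fam]

theorem mem_span_iff (h : IsUnit (dt hrd v κ)) (z : M (k := k) A d) :
    z ∈ Submodule.span A (Set.range v) ↔ ∀ b, (bas h).repr z (Sum.inr b) = 0 := by
  constructor
  · intro hz b
    induction hz using Submodule.span_induction with
    | mem x hx =>
      obtain ⟨a, rfl⟩ := hx
      rw [show v a = bas h (Sum.inl a) by rw [bas_apply]; rfl, Module.Basis.repr_self, Finsupp.single_eq_of_ne]
      simp
    | zero => simp
    | add x y _ _ hx hy => simp [hx, hy]
    | smul c x _ hx => simp [hx]
  · intro hz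
    rw [decomp h z]
    simp only [hz, zero_smul, Finset.sum_const_zero, add_zero]
    exact Submodule.sum_mem _ fun a _ => Submodule.smul_mem _ _ (Submodule.subset_span ⟨a, rfl⟩)

/-- The projection to the coordinates along the standard vectors. -/
def proj (h : IsUnit (dt hrd v κ)) : M (k := k) A d →ₗ[A] Fin (d - r) → A :=
  LinearMap.pi fun b => (bas h).coord (Sum.inr b)

theorem ker_proj (h : IsUnit (dt hrd v κ)) : LinearMap.ker (proj h) = Submodule.span A (Set.range v) := by
  ext z
  rw [LinearMap.mem_ker, mem_span_iff h]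
  exact funext_iff

theorem proj_surjective (h : IsUnit (dt hrd v κ)) : Function.Surjective (proj h) := by
  intro c
  classical
  refine ⟨∑ i, c i • bas h (Sum.inr i), ?_⟩
  ext j
  simp [proj, Finsupp.single_apply]

/-- The quotient by the span of `v`. -/
def quotEquiv (h : IsUnit (dt hrd v κ)) :
    (M (k := k) A d ⧸ Submodule.span A (Set.range v)) ≃ₗ[A] (Fin (d - r) → A) :=
  (Submodule.quotEquivOfEq _ _ (ker_proj h).symm).trans ((proj h).quotKerEquivOfSurjective (proj_surjective h))

/-- The Grassmannian point spanned by `v`. -/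
def grass (h : IsUnit (dt hrd v κ)) : Module.Grassmannian A (M (k := k) A d) (d - r) where
  toSubmodule := Submodule.span A (Set.range v)
  finite_quotient := Module.Finite.equiv (quotEquiv h).symm
  projective_quotient := Module.Projective.of_equiv (quotEquiv h).symm
  rankAtStalk_eq p := by
    haveI : Nontrivial A := p.nontrivial
    rw [Module.rankAtStalk_eq_of_equiv (quotEquiv h), Module.rankAtStalk_eq_finrank_of_free]
    simp

theorem grass_toSubmodule (h : IsUnit (dt hrd v κ)) : (grass h).toSubmodule = Submodule.span A (Set.range v) := rfl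

theorem grass_unique (h : IsUnit (dt hrd v κ)) (N : Module.Grassmannian A (M (k := k) A d) (d - r))
    (hN : ∀ a, v a ∈ N.toSubmodule) : N = grass h := by
  have hle : Submodule.span A (Set.range v) ≤ N.toSubmodule :=
    Submodule.span_le.mpr (by rintro _ ⟨a, rfl⟩; exact hN a)
  refine Module.Grassmannian.ext (le_antisymm (fun z hz => ?_) hle)
  let ρ := (Submodule.factor hle).comp (quotEquiv h).symm.toLinearMap
  have hρ : Function.Bijective ρ := by
    refine Module.bijective_of_surjective_of_rankAtStalk_eq
      ((Submodule.factor_surjective hle).comp (quotEquiv h).symm.surjective) (fun m hm => ?_)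
    haveI : Nontrivial A := (⟨m, hm.isPrime⟩ : PrimeSpectrum A).nontrivial
    rw [N.rankAtStalk_eq, Module.rankAtStalk_eq_finrank_of_free]
    simp
  rw [grass_toSubmodule, ← Submodule.Quotient.mk_eq_zero]
  apply (quotEquiv h).injective
  rw [map_zero]
  apply hρ.1
  rw [map_zero]
  simp only [ρ, LinearMap.comp_apply, LinearEquiv.coe_coe, LinearEquiv.symm_apply_apply]
  simp [Submodule.factor, Submodule.mapQ_apply, (Submodule.Quotient.mk_eq_zero _).mpr hz]

theorem eq_of_sub_mem (h : IsUnit (dt hrd v κ)) (q q' : Fin (d - r) → A) (z : M (k := k) A d)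
    (h1 : z + ∑ b, q b • stdB A d (κ b) ∈ Submodule.span A (Set.range v))
    (h2 : z + ∑ b, q' b • stdB A d (κ b) ∈ Submodule.span A (Set.range v)) : q = q' := by
  classical
  have hc : ∀ (q : Fin (d - r) → A) b, (bas h).repr (∑ c, q c • stdB A d (κ c)) (Sum.inr b) = q b := by
    intro q b
    have : ∀ c, stdB A d (κ c) = bas h (Sum.inr c) := fun c => by rw [bas_apply]; rfl
    simp [this, Finsupp.single_apply]
  funext b
  have e1 := (mem_span_iff h _).mp h1 b
  have e2 := (mem_span_iff h _).mp h2 b
  rw [map_add, Finsupp.add_apply, hc] at e1 e2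
  exact add_left_cancel (e1.trans e2.symm)

/-- Membership in the span descends along injective maps. -/
theorem mem_span_of_ch {B : Type u} [CommRing B] [Algebra k B] (φ : A →ₐ[k] B) (hφ : Function.Injective φ)
    (h : IsUnit (dt hrd v κ)) (z : M (k := k) A d) (hz : ch φ z ∈ Submodule.span B (Set.range fun a => ch φ (v a))) :
    z ∈ Submodule.span A (Set.range v) := by
  have h' : IsUnit (dt hrd (fun a => ch φ (v a)) κ) := by rw [← map_dt]; exact h.map φ
  rw [mem_span_iff h]
  intro b
  apply hφ
  rw [map_zero, ← (mem_span_iff h' _).mp hz b]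
  have e : ch φ z = (∑ a, φ ((bas h).repr z (Sum.inl a)) • bas h' (Sum.inl a)) +
      ∑ c, φ ((bas h).repr z (Sum.inr c)) • bas h' (Sum.inr c) := by
    conv_lhs => rw [decomp h z]
    simp only [map_add, map_sum, ch_smul, ch_stdB, bas_apply, fam, Sum.elim_inl, Sum.elim_inr]
  classical
  simp [e, Finsupp.single_apply]

end Unit

/-- Over a field an independent family has a complement among the standard vectors. -/
theorem exists_compl_std (hrd : r ≤ d) {K : Type u} [Field K] [Algebra k K] (v : Fin r → M (k := k) K d)
    (hv : LinearIndependent K v) : ∃ κ : Fin (d - r) → Fin d, dt hrd v κ ≠ 0 := by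
  classical
  have hs : LinearIndepOn K id (Set.range v) := hv.linearIndepOn_id
  let T := Set.range v ∪ Set.range (stdB (k := k) K d)
  have hsT : Set.range v ⊆ T := Set.subset_union_left
  let E := hs.extend hsT
  have hEsub : E ⊆ T := hs.extend_subset hsT
  have hE : LinearIndepOn K id E := hs.linearIndepOn_extend hsT
  have hspan : Submodule.span K E = ⊤ := by
    refine eq_top_iff.mpr ?_
    rw [← (stdB (k := k) K d).span_eq, Submodule.span_le]
    exact fun x hx => hs.subset_span_extend hsT (Or.inr hx)
  have hvE : Set.range v ⊆ E := hs.subset_extend hsT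
  let bE : Module.Basis ↥E K (M (k := k) K d) := Module.Basis.mk hE (by simpa using hspan.ge)
  haveI : Finite ↥E := Module.Finite.finite_basis bE
  haveI : Finite ↥(E \ Set.range v) := Finite.Set.subset E Set.sdiff_subset
  haveI : Fintype ↥(E \ Set.range v) := Fintype.ofFinite _
  let eE : Fin r ⊕ ↥(E \ Set.range v) ≃ ↥E :=
    (Equiv.sumCongr (Equiv.ofInjective _ hv.injective) (Equiv.refl _)).trans (Equiv.Set.sumDiffSubset hvE)
  have hcard : Fintype.card ↥(E \ Set.range v) = d - r := by
    have h2 := Module.finrank_eq_nat_card_basis bE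
    rw [Module.finrank_eq_card_basis (stdB (k := k) K d), Fintype.card_fin, ← Nat.card_congr eE,
      Nat.card_eq_fintype_card, Fintype.card_sum, Fintype.card_fin] at h2
    omega
  let eD : Fin (d - r) ≃ ↥(E \ Set.range v) := (Fintype.equivFinOfCardEq hcard).symm
  have hstd : ∀ b, ∃ c, stdB (k := k) K d c = (eD b).1 := fun b =>
    (hEsub (eD b).2.1).resolve_left (eD b).2.2
  choose κ hκ using hstd
  refine ⟨κ, IsUnit.ne_zero ?_⟩
  let b' := bE.reindex (((Equiv.sumCongr (Equiv.refl _) eD).trans eE).symm)
  have hfam : fam v κ = b' := by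
    funext i
    rcases i with a | b
    · simp [fam, b', bE, eE]
    · simp [fam, b', bE, eE, hκ]
  rw [dt, hfam]
  exact Module.Basis.isUnit_det _ _

end Groth.Agent.LG86

end
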