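import Groth.Agent.LG86.ExactBasis
import Groth.Agent.LG86.Grass

/-!
# Field valued points: spans of propagations, exactness and normal forms
-/

set_option autoImplicit false
set_option maxHeartbeats 1000000

universe u

open TensorProduct

noncomputable section

namespace Groth.Agent.LG86

variable {k : Type u} [CommRing k] {K : Type u} [Field K] [Algebra k K] {d r n : ℕ}
  {f g : Fin n → ((Fin d → k) →ₗ[k] (Fin d → k))} {s : k}

theorem map_span_ext (H : Hyp f g s) {ι : Type*} (J : ι → ℕ) (v : ι → M (k := k) K d) {i : ℕ} (hi : i < n) :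
    Submodule.map (ext0 K f i) (Submodule.span K (Set.range fun a => path f g K (J a) i (v a))) ≤
        Submodule.span K (Set.range fun a => path f g K (J a) (i + 1) (v a)) ∧
      Submodule.map (ext0 K g i) (Submodule.span K (Set.range fun a => path f g K (J a) (i + 1) (v a))) ≤
        Submodule.span K (Set.range fun a => path f g K (J a) i (v a)) := by
  rw [show ext0 K f i = (f ⟨i, hi⟩).baseChange K from ext0_eq ⟨i, hi⟩,
    show ext0 K g i = (g ⟨i, hi⟩).baseChange K from ext0_eq ⟨i, hi⟩]
  exact map_span_le f g K s H.hI J v ⟨i, hi⟩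

theorem path_comp (H : Hyp f g s) {j l : ℕ} (hj : j ≤ n) {i : ℕ} (hi : i ≤ n) (v : M (k := k) K d) :
    ∃ c : K, path f g K j i (path f g K l j v) = c • path f g K l i v := by
  let S : ℕ → Submodule K (M (k := k) K d) := fun m =>
    Submodule.span K (Set.range fun _ : Unit => path f g K l m v)
  have h := path_mem (f := f) (g := g) S (fun m hm => (map_span_ext H (fun _ : Unit => l) (fun _ => v) hm).1)
    (fun m hm => (map_span_ext H (fun _ : Unit => l) (fun _ => v) hm).2) hj
    (v := path f g K l j v) (Submodule.subset_span ⟨(), rfl⟩) i hi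
  simp only [S, Set.range_const, Submodule.mem_span_singleton] at h
  obtain ⟨c, hc⟩ := h
  exact ⟨c, hc.symm⟩

/-- A linked tuple of submodules, indexed by natural numbers. -/
def lvl {A : Type u} [CommRing A] [Algebra k A] (V : Fin (n + 1) → Module.Grassmannian A (M (k := k) A d) (d - r))
    (i : ℕ) : Submodule A (M (k := k) A d) :=
  if h : i < n + 1 then (V ⟨i, h⟩).toSubmodule else ⊥

theorem lvl_val {A : Type u} [CommRing A] [Algebra k A] (V : Fin (n + 1) → Module.Grassmannian A (M (k := k) A d) (d - r))
    (i : Fin (n + 1)) : lvl V i.val = (V i).toSubmodule := dif_pos i.isLt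

theorem span_eq_of_indep (hrd : r ≤ d) {V : Fin (n + 1) → Module.Grassmannian K (M (k := k) K d) (d - r)}
    (i : Fin (n + 1)) (p : Fin r → M (k := k) K d) (hp : LinearIndependent K p) (hmem : ∀ a, p a ∈ (V i).toSubmodule) :
    Submodule.span K (Set.range p) = (V i).toSubmodule := by
  haveI : Module.Finite K (M (k := k) K d) := Module.Finite.of_basis (stdB K d)
  refine Submodule.eq_of_le_of_finrank_le (Submodule.span_le.mpr (by rintro _ ⟨a, rfl⟩; exact hmem a)) ?_
  rw [finrank_grass hrd, finrank_span_eq_card hp, Fintype.card_fin]

/-- The number of forward dimensions at a level. -/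
def rk (f : Fin n → ((Fin d → k) →ₗ[k] (Fin d → k)))
    (V : Fin (n + 1) → Module.Grassmannian K (M (k := k) K d) (d - r)) (i : ℕ) : ℕ :=
  Module.finrank K (Submodule.map (ext0 K f i) (lvl V i))

theorem isExact_of_ne_zero (H : Hyp f g s) (hs' : algebraMap k K s ≠ 0)
    (V : Fin (n + 1) → Module.Grassmannian K (M (k := k) K d) (d - r)) :
    W4c1limliniiii.IsExact k d r n f g K V := by
  intro i
  constructor <;> rintro z ⟨hz, -⟩
  · have h := H.fg (A := K) i.isLt z
    rw [ext0_eq i, ext0_eq i, show (g i).baseChange K z = 0 from hz, map_zero, eq_comm, smul_eq_zero] at h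
    rw [h.resolve_left hs']; exact zero_mem _
  · have h := H.gf (A := K) i.isLt z
    rw [ext0_eq i, ext0_eq i, show (f i).baseChange K z = 0 from hz, map_zero, eq_comm, smul_eq_zero] at h
    rw [h.resolve_left hs']; exact zero_mem _

variable {J : Fin r → Fin (n + 1)} {v : Fin r → M (k := k) K d}
  {V : Fin (n + 1) → Module.Grassmannian K (M (k := k) K d) (d - r)}

theorem isExact_of_span (H : Hyp f g s)
    (hind : ∀ i : Fin (n + 1), LinearIndependent K fun a => path f g K (J a).val i.val (v a))
    (hspan : ∀ i : Fin (n + 1), (V i).toSubmodule = Submodule.span K (Set.range fun a => path f g K (J a).val i.val (v a))) :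
    W4c1limliniiii.IsExact k d r n f g K V := by
  by_cases hs : algebraMap k K s = 0
  swap
  · exact isExact_of_ne_zero H hs V
  intro i
  constructor
  · rintro z ⟨hz, hzV⟩
    rw [SetLike.mem_coe, hspan, Submodule.mem_span_range_iff_exists_fun] at hzV
    obtain ⟨c, rfl⟩ := hzV
    have h0 : ∑ a, (if (J a).val ≤ i.val then 0 else c a) • path f g K (J a).val i.val (v a) = 0 := by
      have hz' : ext0 K g i.val (∑ a, c a • path f g K (J a).val (i.val + 1) (v a)) = 0 := by
        rw [ext0_eq i]; exact hz
      rw [map_sum] at hz'
      rw [← hz']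
      refine Finset.sum_congr rfl fun a _ => ?_
      rw [map_smul]
      split_ifs with h
      · rw [path_succ f g K h, Module.End.mul_apply, H.gf i.isLt, hs, zero_smul, smul_zero]
      · rw [path_pred f g K (lt_of_not_ge h), Module.End.mul_apply]
    have hc := Fintype.linearIndependent_iff.mp (hind i.castSucc) _ h0
    refine Submodule.mem_map.mpr ⟨∑ a, c a • path f g K (J a).val i.val (v a), ?_, ?_⟩
    · rw [hspan]; exact (Submodule.mem_span_range_iff_exists_fun K).mpr ⟨c, rfl⟩
    · rw [map_sum, Fin.val_succ]
      refine Finset.sum_congr rfl fun a _ => ?_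
      rw [map_smul]
      by_cases h : (J a).val ≤ i.val
      · rw [path_succ f g K h, Module.End.mul_apply, ext0_eq i]
      · have := hc a; rw [if_neg h] at this; rw [this, zero_smul, zero_smul]
  · rintro z ⟨hz, hzV⟩
    rw [SetLike.mem_coe, hspan, Submodule.mem_span_range_iff_exists_fun] at hzV
    obtain ⟨c, rfl⟩ := hzV
    have h0 : ∑ a, (if (J a).val ≤ i.val then c a else 0) • path f g K (J a).val (i.val + 1) (v a) = 0 := by
      have hz' : ext0 K f i.val (∑ a, c a • path f g K (J a).val i.val (v a)) = 0 := by
        rw [ext0_eq i]; exact hz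
      rw [map_sum] at hz'
      rw [← hz']
      refine Finset.sum_congr rfl fun a _ => ?_
      rw [map_smul]
      split_ifs with h
      · rw [path_succ f g K h, Module.End.mul_apply]
      · rw [path_pred f g K (lt_of_not_ge h), Module.End.mul_apply, H.fg i.isLt, hs, zero_smul, smul_zero]
    have hc := Fintype.linearIndependent_iff.mp (hind i.succ) _ h0
    refine Submodule.mem_map.mpr ⟨∑ a, c a • path f g K (J a).val (i.val + 1) (v a), ?_, ?_⟩
    · rw [hspan, Fin.val_succ]; exact (Submodule.mem_span_range_iff_exists_fun K).mpr ⟨c, rfl⟩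
    · rw [map_sum, Fin.val_castSucc]
      refine Finset.sum_congr rfl fun a _ => ?_
      rw [map_smul]
      by_cases h : (J a).val ≤ i.val
      · have := hc a; rw [if_pos h] at this; rw [this, zero_smul, zero_smul]
      · rw [path_pred f g K (lt_of_not_ge h), Module.End.mul_apply, ext0_eq i]

theorem rk_of_span (H : Hyp f g s) (hs : algebraMap k K s = 0)
    (hind : ∀ i : Fin (n + 1), LinearIndependent K fun a => path f g K (J a).val i.val (v a))
    (hspan : ∀ i : Fin (n + 1), (V i).toSubmodule = Submodule.span K (Set.range fun a => path f g K (J a).val i.val (v a)))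
    (i : Fin n) : rk f V i.val = Fintype.card {a : Fin r // (J a).val ≤ i.val} := by
  let p : {a : Fin r // (J a).val ≤ i.val} → M (k := k) K d := fun a => path f g K (J a.1).val (i.val + 1) (v a.1)
  have hmap : Submodule.map (ext0 K f i.val) (lvl V i.val) = Submodule.span K (Set.range p) := by
    rw [show lvl V i.val = (V i.castSucc).toSubmodule from lvl_val V i.castSucc, hspan, Fin.val_castSucc,
      Submodule.map_span, ← Set.range_comp]
    apply le_antisymm <;> rw [Submodule.span_le] <;> rintro _ ⟨a, rfl⟩
    · by_cases h : (J a).val ≤ i.val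
      · exact Submodule.subset_span ⟨⟨a, h⟩, by simp only [p, Function.comp_apply]; rw [path_succ f g K h, Module.End.mul_apply]⟩
      · simp only [Function.comp_apply]
        rw [path_pred f g K (lt_of_not_ge h), Module.End.mul_apply, H.fg i.isLt, hs, zero_smul]
        exact zero_mem _
    · refine Submodule.subset_span ⟨a.1, ?_⟩
      simp only [p, Function.comp_apply]
      rw [path_succ f g K a.2, Module.End.mul_apply]
  rw [rk, hmap]
  exact finrank_span_eq_card ((hind i.succ).comp Subtype.val Subtype.val_injective)

/-- Normal form: the sources are projections of standard vectors along chosen complements. -/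
theorem exists_normal (hrd : r ≤ d) (H : Hyp f g s) (hV : V ∈ W4c1limliniiii.LGPoints k d r n f g K)
    (hx : W4c1limliniiii.IsExact k d r n f g K V) :
    ∃ (J : Fin r → Fin (n + 1)) (c : Fin r → Fin d) (κ : Fin (n + 1) → Fin (d - r) → Fin d)
      (q : Fin r × Fin (d - r) → K),
      (algebraMap k K s ≠ 0 → ∀ a, J a = 0) ∧
      (∀ a, stdB K d (c a) + ∑ b, q (a, b) • stdB K d (κ (J a) b) ∈ (V (J a)).toSubmodule) ∧
        ∀ i : Fin (n + 1), IsUnit (dt hrd (fun a => path f g K (J a).val i.val
          (stdB K d (c a) + ∑ b, q (a, b) • stdB K d (κ (J a) b))) (κ i)) := by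
  classical
  obtain ⟨J, v, hv, hind, hJ⟩ := exists_propagation_basis f g hrd s H.hI (fun i hi z => H.ff_zero hi) V hV hx
  have hmem : ∀ (j : Fin (n + 1)) (z : M (k := k) K d), z ∈ (V j).toSubmodule → ∀ i : Fin (n + 1),
      path f g K j.val i.val z ∈ (V i).toSubmodule := by
    intro j z hz i
    rw [← lvl_val V i]
    refine path_mem (f := f) (g := g) (lvl V) (fun m hm => ?_) (fun m hm => ?_) (Nat.lt_succ_iff.mp j.isLt)
      (by rw [lvl_val]; exact hz) i.val (Nat.lt_succ_iff.mp i.isLt)
    · rw [show ext0 K f m = _ from ext0_eq ⟨m, hm⟩, show lvl V m = _ from lvl_val V (Fin.castSucc ⟨m, hm⟩),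
        show lvl V (m + 1) = _ from lvl_val V (Fin.succ ⟨m, hm⟩)]
      exact (hV ⟨m, hm⟩).1
    · rw [show ext0 K g m = _ from ext0_eq ⟨m, hm⟩, show lvl V m = _ from lvl_val V (Fin.castSucc ⟨m, hm⟩),
        show lvl V (m + 1) = _ from lvl_val V (Fin.succ ⟨m, hm⟩)]
      exact (hV ⟨m, hm⟩).2
  choose κ hκ using fun i : Fin (n + 1) => exists_compl_std hrd _ (hind i)
  have hu : ∀ i, IsUnit (dt hrd (fun a => path f g K (J a).val i.val (v a)) (κ i)) := fun i => (hκ i).isUnit
  have hspan0 : ∀ i, Submodule.span K (Set.range fun a => path f g K (J a).val i.val (v a)) = (V i).toSubmodule :=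
    fun i => span_eq_of_indep hrd i _ (hind i) fun a => hmem _ _ (hv a) i
  -- projection of standard vectors onto the members
  have hproj : ∀ (j : Fin (n + 1)) (c : Fin d), ∃ q : Fin (d - r) → K,
      stdB K d c + ∑ b, q b • stdB K d (κ j b) ∈ (V j).toSubmodule := by
    intro j c
    refine ⟨fun b => -(bas (hu j)).repr (stdB K d c) (Sum.inr b), ?_⟩
    have h := decomp (hu j) (stdB K d c)
    simp only [neg_smul', Finset.sum_neg_distrib]
    rw [← sub_eq_add_neg, sub_eq_of_eq_add h]
    rw [← hspan0]
    exact Submodule.sum_mem _ fun a _ => Submodule.smul_mem _ _ (Submodule.subset_span ⟨a, rfl⟩)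
  choose qq hqq using hproj
  let φ : Fin (n + 1) → Fin d → M (k := k) K d := fun j c => stdB K d c + ∑ b, qq j c b • stdB K d (κ j b)
  have key : ∀ S : Finset (Fin r), ∃ (v' : Fin r → M (k := k) K d) (c : Fin r → Option (Fin d)),
      (∀ a, v' a ∈ (V (J a)).toSubmodule) ∧ (∀ i : Fin (n + 1), LinearIndependent K fun a => path f g K (J a).val i.val (v' a)) ∧
        ∀ a ∈ S, ∃ c, v' a = φ (J a) c := by
    intro S
    induction S using Finset.induction_on with
    | empty => exact ⟨v, fun _ => none, hv, hind, by simp⟩
    | @insert a S haS ih =>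
      obtain ⟨v', -, hv', hind', hS⟩ := ih
      let p := fun i : Fin (n + 1) => fun b => path f g K (J b).val i.val (v' b)
      have hsp : ∀ i, Submodule.span K (Set.range (p i)) = (V i).toSubmodule := fun i =>
        span_eq_of_indep hrd i _ (hind' i) fun b => hmem _ _ (hv' b) i
      -- some projection involves the `a`-th vector
      obtain ⟨c, co, hco, hne⟩ : ∃ (c : Fin d) (co : Fin r → K), ∑ b, co b • p (J a) b = φ (J a) c ∧ co a ≠ 0 := by
        by_contra hcon
        push Not at hcon
        have hle : (V (J a)).toSubmodule ≤ Submodule.span K (p (J a) '' {b | b ≠ a}) := by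
          intro z hz
          have hz' : z = ∑ c, (stdB K d).repr z c • φ (J a) c := by
            have hsub : z - ∑ c, (stdB K d).repr z c • φ (J a) c ∈ (V (J a)).toSubmodule :=
              sub_mem hz (Submodule.sum_mem _ fun c _ => Submodule.smul_mem _ _ (hqq _ c))
            have hrew : z - ∑ c, (stdB K d).repr z c • φ (J a) c =
                0 + ∑ b, (-∑ c, (stdB K d).repr z c * qq (J a) c b) • stdB K d (κ (J a) b) := by
              simp only [φ, smul_add, Finset.sum_add_distrib, (stdB K d).sum_repr, Finset.smul_sum, smul_smul]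
              rw [Finset.sum_comm, zero_add, sub_add_eq_sub_sub, sub_self, zero_sub]
              simp only [neg_smul', Finset.sum_neg_distrib, sum_smul']
            rw [← sub_eq_zero, hrew]
            rw [hrew, ← hspan0] at hsub
            have h0 : (0 : M (k := k) K d) + ∑ b, (0 : Fin (d - r) → K) b • stdB K d (κ (J a) b) ∈
                Submodule.span K (Set.range fun b => path f g K (J b).val (J a).val (v b)) := by simp
            have hq := eq_of_sub_mem (hu (J a)) _ (0 : Fin (d - r) → K) 0 hsub h0
            simp [congrFun hq]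
          rw [hz']
          refine Submodule.sum_mem _ fun c _ => Submodule.smul_mem _ _ ?_
          have := hqq (J a) c
          rw [← hsp, Submodule.mem_span_range_iff_exists_fun] at this
          obtain ⟨co, hco⟩ := this
          change φ (J a) c ∈ _
          rw [show φ (J a) c = ∑ b, co b • p (J a) b from hco.symm]
          refine Submodule.sum_mem _ fun b _ => ?_
          by_cases hb : b = a
          · subst hb; rw [hcon c co hco, zero_smul]; exact zero_mem _
          · exact Submodule.smul_mem _ _ (Submodule.subset_span ⟨b, hb, rfl⟩)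
        have hnot := (hind' (J a)).notMem_span_image (s := {b | b ≠ a}) (x := a) (by simp)
        exact hnot (hle (hmem _ _ (hv' a) _))
      refine ⟨Function.update v' a (φ (J a) c), fun _ => none, fun b => ?_, fun i => ?_, fun b hb => ?_⟩
      · by_cases hb : b = a
        · subst hb; rw [Function.update_self]; exact hqq _ _
        · rw [Function.update_of_ne hb]; exact hv' b
      · choose cs hcs using fun b : Fin r => path_comp H (Nat.lt_succ_iff.mp (J a).isLt) (l := (J b).val)
          (Nat.lt_succ_iff.mp i.isLt) (v' b)
        have hcsa : cs a = 1 := by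
          have h := hcs a
          rw [path_self, Module.End.one_apply] at h
          have h2 : (cs a - 1) • p i a = 0 := by
            simp only [p]
            rw [sub_smul', one_smul, sub_eq_zero]; exact h.symm
          exact sub_eq_zero.mp ((smul_eq_zero.mp h2).resolve_right ((hind' i).ne_zero a))
        have hnew : (fun b => path f g K (J b).val i.val (Function.update v' a (φ (J a) c) b)) =
            Function.update (p i) a (∑ b, (co b * cs b) • p i b) := by
          funext b
          by_cases hb : b = a
          · subst hb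
            rw [Function.update_self, Function.update_self, ← hco, map_sum]
            exact Finset.sum_congr rfl fun b' _ => by rw [map_smul, hcs b', smul_smul]
          · rw [Function.update_of_ne hb, Function.update_of_ne hb]
        rw [hnew, Fintype.linearIndependent_iff]
        intro g0 hg0
        have hsplit : ∑ b, g0 b • Function.update (p i) a (∑ b, (co b * cs b) • p i b) b =
            ∑ b, ((if b = a then 0 else g0 b) + g0 a * (co b * cs b)) • p i b := by
          simp only [add_smul, Finset.sum_add_distrib, mul_smul, ← Finset.smul_sum]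
          rw [← Finset.add_sum_erase _ _ (Finset.mem_univ a), Function.update_self,
            ← Finset.add_sum_erase _ (fun b => (if b = a then 0 else g0 b) • p i b) (Finset.mem_univ a),
            if_pos rfl, zero_smul, zero_add, add_comm]
          congr 1
          refine Finset.sum_congr rfl fun b hb => ?_
          rw [Function.update_of_ne (Finset.ne_of_mem_erase hb), if_neg (Finset.ne_of_mem_erase hb)]
        have h := Fintype.linearIndependent_iff.mp (hind' i) _ (hsplit.symm.trans hg0)
        have ha := h a
        rw [if_pos rfl, zero_add, hcsa, mul_one, mul_eq_zero] at ha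
        intro b
        by_cases hb : b = a
        · subst hb; exact ha.resolve_right hne
        · have := h b; rw [if_neg hb, ha.resolve_right hne, zero_mul, add_zero] at this; exact this
      · rw [Finset.mem_insert] at hb
        rcases hb with rfl | hb
        · exact ⟨c, Function.update_self ..⟩
        · rw [Function.update_of_ne (fun h : b = a => haS (h ▸ hb))]; exact hS b hb
  obtain ⟨v', -, hv', hind', hall⟩ := key Finset.univ
  choose c hc using fun a => hall a (Finset.mem_univ a)
  refine ⟨J, c, κ, fun p => qq (J p.1) (c p.1) p.2, hJ, fun a => hqq _ _, fun i => ?_⟩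
  have hfun : (fun a => path f g K (J a).val i.val (stdB K d (c a) + ∑ b, qq (J a) (c a) b • stdB K d (κ (J a) b))) =
      fun a => path f g K (J a).val i.val (v' a) := funext fun a => by rw [hc a]
  change IsUnit (dt hrd _ (κ i))
  rw [hfun, isUnit_iff_ne_zero]
  intro h0
  have hli : LinearIndependent K (fam (fun a => path f g K (J a).val i.val (v' a)) (κ i)) := by
    rw [fam, linearIndependent_sum]
    refine ⟨hind' i, ?_, ?_⟩
    · have h := (bas (hu i)).linearIndependent.comp Sum.inr Sum.inr_injective
      rw [show ⇑(bas (hu i)) ∘ Sum.inr = fun b => stdB (k := k) K d (κ i b) from funext fun b => by simp [bas_apply, fam]] at h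
      exact h
    · have hsp : Submodule.span K (Set.range fun a => path f g K (J a).val i.val (v' a)) =
          Submodule.span K (Set.range fun a => path f g K (J a).val i.val (v a)) := by
        rw [hspan0, span_eq_of_indep hrd i _ (hind' i) fun a => hmem _ _ (hv' a) i]
      simp only [Sum.elim_comp_inl, Sum.elim_comp_inr]
      rw [hsp, Submodule.disjoint_def]
      intro z hz hz'
      obtain ⟨co, rfl⟩ := (Submodule.mem_span_range_iff_exists_fun K).mp hz'
      have h0' : (0 : M (k := k) K d) + ∑ b, (0 : Fin (d - r) → K) b • stdB K d (κ i b) ∈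
          Submodule.span K (Set.range fun a => path f g K (J a).val i.val (v a)) := by simp
      have hq := eq_of_sub_mem (hu i) co (0 : Fin (d - r) → K) 0 (by simpa using hz) h0'
      simp [congrFun hq]
  refine not_isUnit_zero (M₀ := K) ?_
  rw [← h0]
  exact ((stdB (k := k) K d).reindex (eSum hrd)).is_basis_iff_det.mp ⟨hli, hli.span_eq_top_of_card_eq_finrank'
    (by rw [Module.finrank_eq_card_basis ((stdB (k := k) K d).reindex (eSum hrd))])⟩

end Groth.Agent.LG86

end
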