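import Groth.Agent.LG86.Rep
import Groth.Agent.LG86.Point

/-!
# Affine charts of a linked Grassmannian around exact points
-/

set_option autoImplicit false
set_option maxHeartbeats 1000000

universe u

open TensorProduct CategoryTheory AlgebraicGeometry IsLocalRing

noncomputable section

namespace Groth.Agent.LG86

variable {k : Type u} [CommRing k] {d r n : ℕ}

/-- The discrete data of a chart: sources, standard vectors and complements. -/
structure Data (d r n : ℕ) where
  J : Fin r → Fin (n + 1)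
  c : Fin r → Fin d
  κ : Fin (n + 1) → Fin (d - r) → Fin d

variable (f g : Fin n → ((Fin d → k) →ₗ[k] (Fin d → k))) (Δ : Data d r n)

/-- The source vectors with coordinates `q`. -/
def wv {A : Type u} [CommRing A] [Algebra k A] (q : Fin r × Fin (d - r) → A) (a : Fin r) : M (k := k) A d :=
  stdB A d (Δ.c a) + ∑ b, q (a, b) • stdB A d (Δ.κ (Δ.J a) b)

/-- Their propagations to a level. -/
def pth {A : Type u} [CommRing A] [Algebra k A] (q : Fin r × Fin (d - r) → A) (i : Fin (n + 1)) (a : Fin r) :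
    M (k := k) A d :=
  path f g A (Δ.J a).val i.val (wv Δ q a)

/-- The product of the determinants at all levels. -/
def dd (hrd : r ≤ d) {A : Type u} [CommRing A] [Algebra k A] (q : Fin r × Fin (d - r) → A) : A :=
  ∏ i : Fin (n + 1), dt hrd (pth f g Δ q i) (Δ.κ i)

variable {f g Δ}

theorem ch_wv {A B : Type u} [CommRing A] [Algebra k A] [CommRing B] [Algebra k B] (φ : A →ₐ[k] B)
    (q : Fin r × Fin (d - r) → A) (a : Fin r) : ch φ (wv Δ q a) = wv Δ (φ ∘ q) a := by
  simp [wv, ch_smul, ch_stdB]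

theorem ch_pth {A B : Type u} [CommRing A] [Algebra k A] [CommRing B] [Algebra k B] (φ : A →ₐ[k] B)
    (q : Fin r × Fin (d - r) → A) (i : Fin (n + 1)) (a : Fin r) :
    ch φ (pth f g Δ q i a) = pth f g Δ (φ ∘ q) i a := by
  rw [pth, pth, ch_path, ch_wv]

theorem map_dd (hrd : r ≤ d) {A B : Type u} [CommRing A] [Algebra k A] [CommRing B] [Algebra k B] (φ : A →ₐ[k] B)
    (q : Fin r × Fin (d - r) → A) : φ (dd f g Δ hrd q) = dd f g Δ hrd (φ ∘ q) := by
  simp only [dd, map_prod, map_dt]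
  refine Finset.prod_congr rfl fun i _ => ?_
  congr 1
  exact funext fun a => ch_pth φ q i a

variable {hrd : r ≤ d}

theorem isUnit_level {A : Type u} [CommRing A] [Algebra k A] {q : Fin r × Fin (d - r) → A}
    (h : IsUnit (dd f g Δ hrd q)) (i : Fin (n + 1)) : IsUnit (dt hrd (pth f g Δ q i) (Δ.κ i)) :=
  isUnit_of_dvd_unit (Finset.dvd_prod_of_mem (fun i => dt hrd (pth f g Δ q i) (Δ.κ i)) (Finset.mem_univ i)) h

/-- The tuple attached to coordinates. -/
def tuple {A : Type u} [CommRing A] [Algebra k A] {q : Fin r × Fin (d - r) → A}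
    (h : IsUnit (dd f g Δ hrd q)) (i : Fin (n + 1)) : Module.Grassmannian A (M (k := k) A d) (d - r) :=
  grass (isUnit_level h i)

theorem tuple_mem {s : k} (H : Hyp f g s) {A : Type u} [CommRing A] [Algebra k A]
    {q : Fin r × Fin (d - r) → A} (h : IsUnit (dd f g Δ hrd q)) :
    tuple h ∈ W4c1limliniiii.LGPoints k d r n f g A := fun i => by
  have := map_span_le f g A s H.hI (fun a => (Δ.J a).val) (wv Δ q) i
  exact this

theorem eq_tuple {A : Type u} [CommRing A] [Algebra k A] {V : Fin (n + 1) → Module.Grassmannian A (M (k := k) A d) (d - r)}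
    (hV : V ∈ W4c1limliniiii.LGPoints k d r n f g A) {q : Fin r × Fin (d - r) → A}
    (h : IsUnit (dd f g Δ hrd q)) (hw : ∀ a, wv Δ q a ∈ (V (Δ.J a)).toSubmodule) : V = tuple h :=
  funext fun i => grass_unique _ _ fun a => path_mem_point hV (Δ.J a) (hw a) i

theorem wv_mem_tuple {A : Type u} [CommRing A] [Algebra k A] {q : Fin r × Fin (d - r) → A}
    (h : IsUnit (dd f g Δ hrd q)) (a : Fin r) : wv Δ q a ∈ (tuple h (Δ.J a)).toSubmodule := by
  rw [tuple, grass_toSubmodule]
  exact Submodule.subset_span ⟨a, by simp [pth, path_self]⟩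

theorem q_unique {A : Type u} [CommRing A] [Algebra k A] {q : Fin r × Fin (d - r) → A}
    (h : IsUnit (dd f g Δ hrd q)) {q' : Fin r × Fin (d - r) → A}
    (hw : ∀ a, wv Δ q' a ∈ (tuple h (Δ.J a)).toSubmodule) : q' = q := by
  funext ⟨a, b⟩
  exact congrFun (eq_of_sub_mem (isUnit_level h (Δ.J a)) (fun b => q' (a, b)) (fun b => q (a, b)) _
    (hw a) (wv_mem_tuple h a)) b

/-! ### The universal chart -/

variable (f g Δ hrd)

/-- The universal coordinates. -/
def qX : Fin r × Fin (d - r) → MvPolynomial (Fin r × Fin (d - r)) k := MvPolynomial.X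

/-- The coordinate ring of the chart. -/
abbrev Q : Type u := Localization.Away (dd f g Δ hrd (qX (k := k) (d := d) (r := r)))

/-- The coordinates in the chart. -/
def qQ : Fin r × Fin (d - r) → Q f g Δ hrd := fun p =>
  algebraMap (MvPolynomial (Fin r × Fin (d - r)) k) (Q f g Δ hrd) (MvPolynomial.X p)

theorem isUnit_qQ : IsUnit (dd f g Δ hrd (qQ f g Δ hrd)) := by
  have h := map_dd (f := f) (g := g) (Δ := Δ) hrd
    (IsScalarTower.toAlgHom k (MvPolynomial (Fin r × Fin (d - r)) k) (Q f g Δ hrd)) qX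
  change IsUnit (dd f g Δ hrd (IsScalarTower.toAlgHom k _ (Q f g Δ hrd) ∘ qX))
  rw [← h]
  exact IsLocalization.Away.algebraMap_isUnit _

variable {f g Δ hrd} {X : Over (Spec (CommRingCat.of k))} (E : Rep (r := r) f g X) {s : k} (H : Hyp f g s)

/-- The chart as a point of `X`. -/
def chartPt (Δ : Data d r n) (hrd : r ≤ d) : specOver (CommAlgCat.of k (Q f g Δ hrd)) ⟶ X :=
  (E.e (CommAlgCat.of k (Q f g Δ hrd))).symm ⟨tuple (isUnit_qQ f g Δ hrd), tuple_mem H _⟩

/-- The chart morphism. -/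
def chart (Δ : Data d r n) (hrd : r ≤ d) : Spec (CommRingCat.of (Q f g Δ hrd)) ⟶ X.left :=
  (chartPt E H Δ hrd).left

/-- The algebra map classifying coordinates with unit determinant. -/
def classify {A : Type u} [CommRing A] [Algebra k A] {q : Fin r × Fin (d - r) → A}
    (h : IsUnit (dd f g Δ hrd q)) : Q f g Δ hrd →ₐ[k] A :=
  IsLocalization.liftAlgHom (M := Submonoid.powers (dd f g Δ hrd (qX (k := k) (d := d) (r := r))))
    (f := MvPolynomial.aeval q) (by
      rintro ⟨_, m, rfl⟩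
      rw [map_pow]
      refine IsUnit.pow _ ?_
      rw [map_dd, show (MvPolynomial.aeval (R := k) q) ∘ qX = q from funext fun p => MvPolynomial.aeval_X q p]
      exact h)

theorem classify_qQ {A : Type u} [CommRing A] [Algebra k A] {q : Fin r × Fin (d - r) → A}
    (h : IsUnit (dd f g Δ hrd q)) : classify h ∘ qQ f g Δ hrd = q := by
  funext p
  exact (IsLocalization.lift_eq _ _).trans (MvPolynomial.aeval_X q p)

theorem classify_ext {A : Type u} [CommRing A] [Algebra k A] (φ ψ : Q f g Δ hrd →ₐ[k] A)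
    (h : φ ∘ qQ f g Δ hrd = ψ ∘ qQ f g Δ hrd) : φ = ψ := by
  apply IsLocalization.algHom_ext (Submonoid.powers (dd f g Δ hrd (qX (k := k) (d := d) (r := r))))
  exact MvPolynomial.algHom_ext fun p => congrFun h p

theorem tuple_of_comp {A : CommAlgCat.{u} k} (ψ : Q f g Δ hrd →ₐ[k] A) (x : specOver A ⟶ X)
    (hx : x.left = Spec.map (CommRingCat.ofHom ψ.toRingHom) ≫ chart E H Δ hrd) :
    ∃ h : IsUnit (dd f g Δ hrd (ψ ∘ qQ f g Δ hrd)), (E.e A x).1 = tuple h := by
  have h : IsUnit (dd f g Δ hrd (ψ ∘ qQ f g Δ hrd)) := by rw [← map_dd]; exact (isUnit_qQ f g Δ hrd).map ψ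
  refine ⟨h, eq_tuple (E.e A x).2 h fun a => ?_⟩
  rw [E.he (CommAlgCat.of k (Q f g Δ hrd)) A (CommAlgCat.ofHom ψ) (chartPt E H Δ hrd) x hx, ← ch_wv]
  refine ch_mem _ ?_
  rw [chartPt, Equiv.apply_symm_apply]
  exact wv_mem_tuple (isUnit_qQ f g Δ hrd) a

theorem comp_of_mem {A : CommAlgCat.{u} k} (x : specOver A ⟶ X) {q : Fin r × Fin (d - r) → A}
    (h : IsUnit (dd f g Δ hrd q)) (hw : ∀ a, wv Δ q a ∈ ((E.e A x).1 (Δ.J a)).toSubmodule) :
    x.left = Spec.map (CommRingCat.ofHom (classify h).toRingHom) ≫ chart E H Δ hrd := by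
  refine E.eq_comp (A := CommAlgCat.of k (Q f g Δ hrd)) (B := A) (CommAlgCat.ofHom (classify h))
    (chartPt E H Δ hrd) x fun i => ?_
  rw [congrFun (eq_tuple (E.e A x).2 h hw) i]
  refine (grass_unique _ _ fun a => ?_).symm
  rw [chartPt, Equiv.apply_symm_apply]
  have : pth f g Δ q i a = ch (classify h) (pth f g Δ (qQ f g Δ hrd) i a) := by rw [ch_pth, classify_qQ]
  rw [this]
  exact ch_mem _ (Submodule.subset_span ⟨a, rfl⟩)

theorem alg_of_comp {A : Type u} [CommRing A] [Algebra k A] (y : Spec (CommRingCat.of A) ⟶ Spec (CommRingCat.of (Q f g Δ hrd)))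
    (hy : (y ≫ chart E H Δ hrd) ≫ X.hom = Spec.map (CommRingCat.ofHom (algebraMap k A))) :
    ∃ ψ : Q f g Δ hrd →ₐ[k] A, y = Spec.map (CommRingCat.ofHom ψ.toRingHom) := by
  obtain ⟨φ, rfl⟩ := Spec.map_surjective y
  have h : CommRingCat.ofHom (algebraMap k (Q f g Δ hrd)) ≫ φ = CommRingCat.ofHom (algebraMap k A) := by
    apply Spec.map_injective
    rw [Spec.map_comp, ← hy, Category.assoc]
    congr 1
    exact (Over.w (chartPt E H Δ hrd)).symm
  refine ⟨{ φ.hom with commutes' := fun c => congrArg (fun t : CommRingCat.of k ⟶ CommRingCat.of A => t.hom c) h }, rfl⟩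

theorem chart_cancel {A : Type u} [CommRing A] (y y' : Spec (CommRingCat.of A) ⟶ Spec (CommRingCat.of (Q f g Δ hrd)))
    (h : y ≫ chart E H Δ hrd = y' ≫ chart E H Δ hrd) : y = y' := by
  let α : CommRingCat.of k ⟶ CommRingCat.of A := Spec.preimage ((y ≫ chart E H Δ hrd) ≫ X.hom)
  letI : Algebra k A := α.hom.toAlgebra
  have hα : Spec.map (CommRingCat.ofHom (algebraMap k A)) = (y ≫ chart E H Δ hrd) ≫ X.hom := Spec.map_preimage _
  obtain ⟨ψ, hψ⟩ := alg_of_comp E H y hα.symm
  obtain ⟨ψ', hψ'⟩ := alg_of_comp E H y' (by rw [← h]; exact hα.symm)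
  let x : specOver (CommAlgCat.of k A) ⟶ X := Over.homMk (y ≫ chart E H Δ hrd) hα.symm
  obtain ⟨hu, ht⟩ := tuple_of_comp E H (A := CommAlgCat.of k A) ψ x (congrArg (· ≫ chart E H Δ hrd) hψ)
  obtain ⟨hu', ht'⟩ := tuple_of_comp E H (A := CommAlgCat.of k A) ψ' x
    (h.trans (congrArg (· ≫ chart E H Δ hrd) hψ'))
  have hq : ψ' ∘ qQ f g Δ hrd = ψ ∘ qQ f g Δ hrd :=
    q_unique hu fun a => by rw [← congrFun ht, congrFun ht']; exact wv_mem_tuple hu' a
  rw [hψ, hψ', classify_ext ψ' ψ hq]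

theorem chart_mono : Mono (chart E H Δ hrd) := by
  refine ⟨fun {T} y y' h => ?_⟩
  refine Scheme.Cover.hom_ext T.affineCover _ _ fun j => ?_
  rw [← cancel_epi (T.affineCover.X j).isoSpec.inv]
  exact chart_cancel E H (A := ↥Γ(T.affineCover.X j, ⊤)) _ _ (by simp only [Category.assoc, h])

theorem exists_field_point (z : Spec (CommRingCat.of (Q f g Δ hrd))) :
    ∃ (K : Type u) (_ : Field K) (_ : Algebra k K) (ψ : Q f g Δ hrd →ₐ[k] K),
      Spec.map (CommRingCat.ofHom ψ.toRingHom) (closedPoint K) = z := by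
  let z' : PrimeSpectrum (Q f g Δ hrd) := z
  let K : Type u := FractionRing (Q f g Δ hrd ⧸ z'.asIdeal)
  refine ⟨K, inferInstance, inferInstance,
    (IsScalarTower.toAlgHom k (Q f g Δ hrd ⧸ z'.asIdeal) K).comp (Ideal.Quotient.mkₐ k z'.asIdeal), ?_⟩
  apply PrimeSpectrum.ext
  change Ideal.comap _ (maximalIdeal K) = z'.asIdeal
  rw [IsLocalRing.maximalIdeal_eq_bot]
  ext a
  change algebraMap (Q f g Δ hrd ⧸ z'.asIdeal) K (Ideal.Quotient.mk z'.asIdeal a) = 0 ↔ _
  rw [IsFractionRing.to_map_eq_zero_iff, Ideal.Quotient.eq_zero_iff_mem]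

/-- Members of a tuple over `B` spanning complements at a point where the chart's complements work. -/
theorem exists_members {B K : Type u} [CommRing B] [Algebra k B] [Field K] [Algebra k K] (φ : B →ₐ[k] K)
    {qK : Fin r × Fin (d - r) → K} (hK : IsUnit (dd f g Δ hrd qK))
    (V : Fin (n + 1) → Module.Grassmannian B (M (k := k) B d) (d - r))
    (hVK : ∀ i, tuple hK i = Module.Grassmannian.map φ (V i)) (i : Fin (n + 1)) :
    ∃ u : Fin r → M (k := k) B d, (∀ a, u a ∈ (V i).toSubmodule) ∧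
      dt hrd (fun a => ch φ (u a)) (Δ.κ i) ≠ 0 := by
  classical
  haveI : Module.Finite K (M (k := k) K d) := Module.Finite.of_basis (stdB K d)
  let N : Submodule B (M (k := k) B d) := (V i).toSubmodule
  obtain ⟨b, hb, hbspan, hbli⟩ := exists_linearIndependent K (ch φ '' (N : Set (M (k := k) B d)))
  haveI : Finite ↥b := hbli.finite
  haveI : Fintype ↥b := Fintype.ofFinite _
  have hspanK : Submodule.span K b = (tuple hK i).toSubmodule := by
    rw [hbspan, hVK i, map_toSubmodule_eq]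
  have hcard : Fintype.card ↥b = r := by
    have h1 := finrank_span_eq_card hbli
    rw [Subtype.range_coe, hspanK, finrank_grass hrd] at h1
    exact h1.symm
  let eb : Fin r ≃ ↥b := (Fintype.equivFinOfCardEq hcard).symm
  choose u hu hu' using fun a => hb (eb a).2
  refine ⟨u, hu, IsUnit.ne_zero ?_⟩
  rw [dt]
  apply (Module.Basis.is_basis_iff_det _).mp
  have hsp : ⊤ ≤ Submodule.span K (Set.range (fam (fun a => ch φ (u a)) (Δ.κ i))) := by
    intro z _
    rw [decomp (isUnit_level hK i) z]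
    refine add_mem (Submodule.sum_mem _ fun a _ => Submodule.smul_mem _ _ ?_)
      (Submodule.sum_mem _ fun c _ => Submodule.smul_mem _ _ (Submodule.subset_span ⟨Sum.inr c, rfl⟩))
    have hmem : pth f g Δ qK i a ∈ Submodule.span K b := by
      rw [hspanK]; exact Submodule.subset_span ⟨a, rfl⟩
    refine Submodule.span_mono ?_ hmem
    intro w hw
    exact ⟨Sum.inl (eb.symm ⟨w, hw⟩), by simp [fam, hu']⟩
  exact ⟨linearIndependent_of_top_le_span_of_card_eq_finrank hsp
    (by rw [Module.finrank_eq_card_basis ((stdB (k := k) K d).reindex (eSum hrd))]), top_le_iff.mp hsp⟩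

/-- Coordinates on a basic neighbourhood of a point where the chart's complements work. -/
theorem exists_nbhd {B K : Type u} [CommRing B] [Algebra k B] [Field K] [Algebra k K] (φ : B →ₐ[k] K)
    {qK : Fin r × Fin (d - r) → K} (hK : IsUnit (dd f g Δ hrd qK))
    (V : Fin (n + 1) → Module.Grassmannian B (M (k := k) B d) (d - r))
    (hVK : ∀ i, tuple hK i = Module.Grassmannian.map φ (V i)) :
    ∃ (h : B) (φ1 : Localization.Away h →ₐ[k] K) (q1 : Fin r × Fin (d - r) → Localization.Away h),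
      φ1.comp (IsScalarTower.toAlgHom k B (Localization.Away h)) = φ ∧ φ1 ∘ q1 = qK ∧
      ∀ a, wv Δ q1 a ∈
        (Module.Grassmannian.map (IsScalarTower.toAlgHom k B (Localization.Away h)) (V (Δ.J a))).toSubmodule := by
  classical
  choose u humem hune using exists_members φ hK V hVK
  let h : B := ∏ i, dt hrd (u i) (Δ.κ i)
  have hh : φ h ≠ 0 := by
    rw [map_prod]
    exact Finset.prod_ne_zero_iff.mpr fun i _ => by rw [map_dt]; exact hune i
  let ι1 : B →ₐ[k] Localization.Away h := IsScalarTower.toAlgHom k B (Localization.Away h)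
  have hunit1 : ∀ y : Submonoid.powers h, IsUnit (φ y) := by
    rintro ⟨_, m, rfl⟩
    rw [map_pow]
    exact (IsUnit.mk0 _ hh).pow m
  let φ1 : Localization.Away h →ₐ[k] K := IsLocalization.liftAlgHom (M := Submonoid.powers h) (f := φ) hunit1
  have hφ1 : φ1.comp ι1 = φ := AlgHom.ext fun b => IsLocalization.lift_eq _ _
  have hu1 : ∀ i, IsUnit (dt hrd (fun a => ch ι1 (u i a)) (Δ.κ i)) := fun i => by
    rw [← map_dt]
    exact isUnit_of_dvd_unit (map_dvd ι1 (Finset.dvd_prod_of_mem (fun i => dt hrd (u i) (Δ.κ i)) (Finset.mem_univ i)))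
      (IsLocalization.Away.algebraMap_isUnit h)
  let q1 : Fin r × Fin (d - r) → Localization.Away h := fun p =>
    -(bas (hu1 (Δ.J p.1))).repr (stdB (Localization.Away h) d (Δ.c p.1)) (Sum.inr p.2)
  have hq1 : ∀ a, wv Δ q1 a ∈ (Module.Grassmannian.map ι1 (V (Δ.J a))).toSubmodule := by
    intro a
    have hd := decomp (hu1 (Δ.J a)) (stdB (Localization.Away h) d (Δ.c a))
    simp only [wv, q1, neg_smul', Finset.sum_neg_distrib]
    rw [← sub_eq_add_neg, sub_eq_of_eq_add hd]
    exact Submodule.sum_mem _ fun b _ => Submodule.smul_mem _ _ (ch_mem _ (humem _ b))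
  refine ⟨h, φ1, q1, hφ1, q_unique hK fun a => ?_, hq1⟩
  rw [← ch_wv, hVK, ← hφ1, Module.Grassmannian.map_comp (d - r) ι1 φ1]
  exact ch_mem _ (hq1 a)

include H in
theorem exists_local_section (z : Spec (CommRingCat.of (Q f g Δ hrd))) :
    ∃ (B : Type u) (_ : CommRing B) (o : Spec (CommRingCat.of B) ⟶ X.left) (_ : IsOpenImmersion o)
      (σ : Spec (CommRingCat.of B) ⟶ Spec (CommRingCat.of (Q f g Δ hrd))),
      σ ≫ chart E H Δ hrd = o ∧ chart E H Δ hrd z ∈ Set.range o := by
  obtain ⟨K, _, _, ψK, hz⟩ := exists_field_point (Δ := Δ) z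
  haveI hsub : Subsingleton ↥(Spec (CommRingCat.of K)) := inferInstanceAs (Subsingleton (PrimeSpectrum K))
  let y0 : specOver (CommAlgCat.of k K) ⟶ X := Over.homMk
    (Spec.map (CommRingCat.ofHom ψK.toRingHom) ≫ chart E H Δ hrd) (by
      change (Spec.map _ ≫ (chartPt E H Δ hrd).left) ≫ X.hom = _
      rw [Category.assoc, Over.w (chartPt E H Δ hrd)]
      change Spec.map _ ≫ Spec.map _ = Spec.map _
      rw [← Spec.map_comp]
      congr 1
      ext c
      exact ψK.commutes c)
  obtain ⟨hK, htK⟩ := tuple_of_comp E H (A := CommAlgCat.of k K) ψK y0 rfl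
  obtain ⟨U, hU, hzU, -⟩ := exists_isAffineOpen_mem_and_subset (X := X.left) (x := chart E H Δ hrd z) (U := ⊤) trivial
  let B := Γ(X.left, U)
  let ι : Spec B ⟶ X.left := hU.fromSpec
  haveI : IsOpenImmersion ι := hU.isOpenImmersion_fromSpec
  let αB : CommRingCat.of k ⟶ B := Spec.preimage (ι ≫ X.hom)
  letI : Algebra k B := αB.hom.toAlgebra
  let Bk : CommAlgCat.{u} k := CommAlgCat.of k B
  have hαB : Spec.map (CommRingCat.ofHom (algebraMap k B)) = ι ≫ X.hom := Spec.map_preimage _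
  let xB : specOver Bk ⟶ X := Over.homMk ι hαB.symm
  let y0l : Spec (CommRingCat.of K) ⟶ X.left := y0.left
  have hy0 : Set.range y0l ⊆ Set.range ι := by
    rintro _ ⟨p, rfl⟩
    rw [Subsingleton.elim p (closedPoint K), hU.range_fromSpec]
    change chart E H Δ hrd (Spec.map (CommRingCat.ofHom ψK.toRingHom) (closedPoint K)) ∈ U
    rw [hz]; exact hzU
  obtain ⟨φc, hφc⟩ := Spec.map_surjective (IsOpenImmersion.lift ι y0l hy0)
  have hfac : Spec.map φc ≫ ι = y0l := by rw [hφc]; exact IsOpenImmersion.lift_fac _ _ _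
  have hcomm : CommRingCat.ofHom (algebraMap k B) ≫ φc = CommRingCat.ofHom (algebraMap k K) := by
    apply Spec.map_injective
    rw [Spec.map_comp, hαB, ← Category.assoc, hfac]
    exact Over.w y0
  let φ : B →ₐ[k] K :=
    { φc.hom with commutes' := fun c => congrArg (fun t : CommRingCat.of k ⟶ CommRingCat.of K => t.hom c) hcomm }
  have hVK : ∀ i, tuple hK i = Module.Grassmannian.map φ ((E.e Bk xB).1 i) := fun i => by
    rw [← congrFun htK i]
    exact E.he Bk (CommAlgCat.of k K) (CommAlgCat.ofHom φ) xB y0 hfac.symm i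
  obtain ⟨h, φ1, q1, hφ1, hqK, hq1⟩ := exists_nbhd φ hK _ hVK
  let B1 : Type u := Localization.Away h
  let ι1 : B →ₐ[k] B1 := IsScalarTower.toAlgHom k B B1
  let B2 : Type u := Localization.Away (dd f g Δ hrd q1)
  let ι2 : B1 →ₐ[k] B2 := IsScalarTower.toAlgHom k B1 B2
  have hunit2 : ∀ y : Submonoid.powers (dd f g Δ hrd q1), IsUnit (φ1 y) := by
    rintro ⟨_, m, rfl⟩
    rw [map_pow, map_dd, hqK]
    exact hK.pow m
  let φ2 : B2 →ₐ[k] K := IsLocalization.liftAlgHom (M := Submonoid.powers (dd f g Δ hrd q1)) (f := φ1) hunit2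
  have hφ2 : φ2.comp ι2 = φ1 := AlgHom.ext fun b => IsLocalization.lift_eq _ _
  have hD2 : IsUnit (dd f g Δ hrd (ι2 ∘ q1)) := by
    rw [← map_dd]; exact IsLocalization.Away.algebraMap_isUnit _
  let o : Spec (CommRingCat.of B2) ⟶ X.left := Spec.map (CommRingCat.ofHom (algebraMap B1 B2)) ≫
    Spec.map (CommRingCat.ofHom (algebraMap B B1)) ≫ ι
  haveI : IsOpenImmersion (Spec.map (CommRingCat.ofHom (algebraMap B1 B2))) :=
    IsOpenImmersion.of_isLocalization (dd f g Δ hrd q1)
  haveI : IsOpenImmersion (Spec.map (CommRingCat.ofHom (algebraMap B B1))) :=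
    IsOpenImmersion.of_isLocalization h
  let ι12 : B →ₐ[k] B2 := ι2.comp ι1
  have ho : o = Spec.map (CommRingCat.ofHom ι12.toRingHom) ≫ ι := by
    simp only [o, ← Category.assoc, ← Spec.map_comp]
    rfl
  let x2 : specOver (CommAlgCat.of k B2) ⟶ X := Over.homMk o (by
    rw [ho, Category.assoc, ← hαB]
    change Spec.map _ ≫ Spec.map _ = Spec.map _
    rw [← Spec.map_comp]
    congr 1)
  have hw2 : ∀ a, wv Δ (ι2 ∘ q1) a ∈ ((E.e (CommAlgCat.of k B2) x2).1 (Δ.J a)).toSubmodule := fun a => by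
    rw [E.he Bk (CommAlgCat.of k B2) (CommAlgCat.ofHom ι12) xB x2 ho, ← ch_wv]
    change _ ∈ (Module.Grassmannian.map (ι2.comp ι1) ((E.e Bk xB).1 (Δ.J a))).toSubmodule
    rw [Module.Grassmannian.map_comp (d - r) ι1 ι2]
    exact ch_mem _ (hq1 a)
  refine ⟨B2, inferInstance, o, inferInstance, _,
    (comp_of_mem E H (A := CommAlgCat.of k B2) x2 hD2 hw2).symm, ?_⟩
  refine ⟨Spec.map (CommRingCat.ofHom φ2.toRingHom) (closedPoint K), ?_⟩
  have heq : Spec.map (CommRingCat.ofHom φ2.toRingHom) ≫ o = y0l := by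
    rw [ho, ← Category.assoc, ← Spec.map_comp]
    refine Eq.trans ?_ hfac
    congr 2
    ext b
    change φ2 (ι2 (ι1 b)) = φ b
    rw [← hφ1, ← hφ2]
    rfl
  rw [← hz]
  exact congrArg (fun m : Spec (CommRingCat.of K) ⟶ X.left => m (closedPoint K)) heq

/-- The chart is an open embedding of spaces. -/
theorem isOpenEmbedding_chart : Topology.IsOpenEmbedding (chart E H Δ hrd) := by
  haveI := chart_mono (Δ := Δ) (hrd := hrd) E H
  have hinj : Function.Injective (chart E H Δ hrd) := (chart E H Δ hrd).injective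
  refine Topology.IsOpenEmbedding.of_continuous_injective_isOpenMap (chart E H Δ hrd).continuous hinj fun W hW => ?_
  rw [isOpen_iff_forall_mem_open]
  rintro _ ⟨z, hz, rfl⟩
  obtain ⟨B, _, o, ho, σ, hσ, hzo⟩ := exists_local_section E H z
  refine ⟨o '' (σ ⁻¹' W), ?_, o.isOpenEmbedding.isOpenMap _ (hW.preimage σ.continuous), ?_⟩
  · rintro _ ⟨b, hb, rfl⟩
    exact ⟨σ b, hb, by rw [← Scheme.Hom.comp_apply, hσ]⟩
  · obtain ⟨b, hb⟩ := hzo
    have : σ b = z := hinj (by rw [← Scheme.Hom.comp_apply, hσ, hb])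
    exact ⟨b, show σ b ∈ W from this.symm ▸ hz, hb⟩

/-- Field valued points in the chart. -/
theorem exists_coords {K : Type u} [Field K] [Algebra k K] (x : specOver (CommAlgCat.of k K) ⟶ X)
    (hx : x.left (closedPoint K) ∈ Set.range (chart E H Δ hrd)) :
    ∃ (q : Fin r × Fin (d - r) → K) (h : IsUnit (dd f g Δ hrd q)), (E.e (CommAlgCat.of k K) x).1 = tuple h := by
  obtain ⟨z, hz⟩ := hx
  obtain ⟨B, _, o, ho, σ, hσ, hzo⟩ := exists_local_section E H z
  let xl : Spec (CommRingCat.of K) ⟶ X.left := x.left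
  have hr : Set.range xl ⊆ Set.range o := by
    rintro _ ⟨p, rfl⟩
    haveI : Subsingleton ↥(Spec (CommRingCat.of K)) := inferInstanceAs (Subsingleton (PrimeSpectrum K))
    rw [Subsingleton.elim p (closedPoint K)]
    change x.left (closedPoint K) ∈ _
    rw [← hz]; exact hzo
  have hy : (IsOpenImmersion.lift o xl hr ≫ σ) ≫ chart E H Δ hrd = xl := by
    rw [Category.assoc, hσ, IsOpenImmersion.lift_fac]
  obtain ⟨ψ, hψ⟩ := alg_of_comp E H (A := K) (IsOpenImmersion.lift o xl hr ≫ σ) (by rw [hy]; exact Over.w x)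
  obtain ⟨h, ht⟩ := tuple_of_comp E H (A := CommAlgCat.of k K) ψ x (hy.symm.trans (congrArg (· ≫ chart E H Δ hrd) hψ))
  exact ⟨_, h, ht⟩

end Groth.Agent.LG86

end
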