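import Groth.Agent.LG86.Maps

/-!
# Exact linked chains over a field are spanned by propagations
-/

set_option autoImplicit false
set_option maxHeartbeats 1000000

universe u

open TensorProduct

noncomputable section

namespace Groth.Agent.LG86

variable {k : Type u} [CommRing k] {K : Type u} [Field K] [Algebra k K] {d r n : ℕ} (f g : Fin n → ((Fin d → k) →ₗ[k] (Fin d → k)))

theorem exists_compl_in (U V : Submodule K (M (k := k) K d)) (h : U ≤ V) :
    ∃ W : Submodule K (M (k := k) K d), W ≤ V ∧ U ⊔ W = V ∧ Disjoint U W := by
  obtain ⟨C, hC⟩ := Submodule.exists_isCompl U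
  refine ⟨C ⊓ V, inf_le_right, ?_, hC.disjoint.mono_right inf_le_left⟩
  rw [← sup_inf_assoc_of_le C h, hC.sup_eq_top, top_inf_eq]

theorem finrank_grass (hrd : r ≤ d) (N : Module.Grassmannian K (M (k := k) K d) (d - r)) :
    Module.finrank K N.toSubmodule = r := by
  haveI : Module.Finite K (M (k := k) K d) := Module.Finite.of_basis (stdB K d)
  have h1 := N.toSubmodule.finrank_quotient_add_finrank
  have h2 := N.rankAtStalk_eq (IsLocalRing.closedPoint K)
  rw [Module.rankAtStalk_eq_finrank_of_free] at h2
  simp only [Pi.natCast_apply, Nat.cast_id] at h2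
  rw [h2, Module.finrank_eq_card_basis (stdB (k := k) K d), Fintype.card_fin] at h1
  omega

variable {f g}

theorem path_mem (V : ℕ → Submodule K (M (k := k) K d))
    (hf : ∀ i < n, Submodule.map (ext0 K f i) (V i) ≤ V (i + 1))
    (hg : ∀ i < n, Submodule.map (ext0 K g i) (V (i + 1)) ≤ V i)
    {j : ℕ} (hj : j ≤ n) {v : M (k := k) K d} (hv : v ∈ V j) : ∀ i ≤ n, path f g K j i v ∈ V i := by
  intro i hi
  rcases le_or_gt j i with h | h
  · induction i, h using Nat.le_induction with
    | base => simpa [path_self] using hv
    | succ i hji ih =>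
      rw [path_succ f g K hji, Module.End.mul_apply]
      exact hf i (by omega) ⟨_, ih (by omega), rfl⟩
  · obtain ⟨t, rfl⟩ : ∃ t, j = i + t := ⟨j - i, by omega⟩
    clear h
    induction t generalizing i with
    | zero => simpa [path_self] using hv
    | succ t ih =>
      rw [path_pred f g K (by omega), Module.End.mul_apply]
      refine hg i (by omega) ⟨_, ?_, rfl⟩
      simp only [show i + (t + 1) = i + 1 + t by omega] at hv hj ⊢
      exact ih (i + 1) (by omega) hj hv

variable (f g)

/-- An exact chain over a field is spanned, level by level, by the propagations of `r` vectors. -/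
theorem exists_propagation_basis (hrd : r ≤ d) (s : k)
    (hI : ∀ i, (f i).comp (g i) = s • LinearMap.id ∧ (g i).comp (f i) = s • LinearMap.id)
    (hff : ∀ i, i + 1 < n → ∀ z : M (k := k) K d, ext0 K f (i + 1) (ext0 K f i z) = 0 → ext0 K f i z = 0)
    (V : Fin (n + 1) → Module.Grassmannian K (M (k := k) K d) (d - r))
    (hV : V ∈ W4c1limliniiii.LGPoints k d r n f g K)
    (hx : W4c1limliniiii.IsExact k d r n f g K V) :
    ∃ (J : Fin r → Fin (n + 1)) (v : Fin r → M (k := k) K d), (∀ a, v a ∈ (V (J a)).toSubmodule) ∧
      (∀ i : Fin (n + 1), LinearIndependent K (fun a => path f g K (J a).val i.val (v a))) ∧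
      (algebraMap k K s ≠ 0 → ∀ a, J a = 0) := by
  classical
  haveI : Module.Finite K (M (k := k) K d) := Module.Finite.of_basis (stdB K d)
  haveI : ∀ p : Submodule K (M (k := k) K d), Module.Free K ↥p := fun p => Module.Free.of_divisionRing K ↥p
  haveI : ∀ p : Submodule K (M (k := k) K d), Module.Finite K ↥p := fun p => Module.Finite.of_injective p.subtype p.injective_subtype
  let Vn : ℕ → Submodule K (M (k := k) K d) := fun i => if h : i < n + 1 then (V ⟨i, h⟩).toSubmodule else ⊥
  have hVn : ∀ i : Fin (n + 1), Vn i.val = (V i).toSubmodule := fun i => dif_pos i.isLt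
  have hdim : ∀ i ≤ n, Module.finrank K (Vn i) = r := fun i hi => by
    rw [show Vn i = (V ⟨i, by omega⟩).toSubmodule from dif_pos (by omega)]; exact finrank_grass hrd _
  have hF : ∀ i : Fin n, ext0 K f i.val = (f i).baseChange K := fun i => by simp [ext0]
  have hG : ∀ i : Fin n, ext0 K g i.val = (g i).baseChange K := fun i => by simp [ext0]
  have hlf : ∀ i < n, Submodule.map (ext0 K f i) (Vn i) ≤ Vn (i + 1) := fun i hi => by
    have := (hV ⟨i, hi⟩).1
    rw [← hF, ← hVn, ← hVn] at this
    exact this
  have hlg : ∀ i < n, Submodule.map (ext0 K g i) (Vn (i + 1)) ≤ Vn i := fun i hi => by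
    have := (hV ⟨i, hi⟩).2
    rw [← hG, ← hVn, ← hVn] at this
    exact this
  by_cases hs : algebraMap k K s = 0
  swap
  · -- all maps are isomorphisms
    let b := Module.finBasisOfFinrankEq K ↥(Vn 0) (hdim 0 (Nat.zero_le _))
    refine ⟨fun _ => 0, fun a => (b a).1, fun a => by rw [← hVn]; exact (b a).2, fun i => ?_, fun _ _ => rfl⟩
    have hinj : ∀ i ≤ n, Function.Injective (path f g K 0 i) := by
      intro i
      induction i with
      | zero => intro _; rw [path_self]; exact fun _ _ h => h
      | succ i ih =>
        intro hi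
        let i' : Fin n := ⟨i, by omega⟩
        have key : ∀ z, (g i').baseChange K ((f i').baseChange K z) = algebraMap k K s • z := fun z => by
          rw [← LinearMap.comp_apply, ← LinearMap.baseChange_comp, (hI i').2, LinearMap.baseChange_smul,
            LinearMap.baseChange_id, LinearMap.smul_apply, LinearMap.id_apply, IsScalarTower.algebraMap_smul]
        rw [path_succ f g K (Nat.zero_le _), Module.End.coe_mul, show ext0 K f i = (f i').baseChange K from hF i']
        refine Function.Injective.comp (fun x y h => ?_) (ih (by omega))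
        exact smul_right_injective _ hs ((key x).symm.trans ((congrArg ((g i').baseChange K) h).trans (key y)))
    have hb : LinearIndependent K b := b.linearIndependent
    refine Fintype.linearIndependent_iff.mpr fun c hc a => ?_
    refine (Fintype.linearIndependent_iff (v := (⇑b : Fin r → ↥(Vn 0)))).mp hb c ?_ a
    apply Subtype.val_injective
    rw [Submodule.coe_sum, Submodule.coe_zero]
    apply hinj i.val (Nat.lt_succ_iff.mp i.isLt)
    rw [map_sum, map_zero, ← hc]
    refine Finset.sum_congr rfl fun x _ => ?_
    rw [Submodule.coe_smul, map_smul]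
    rfl
  · have hs0 : ∀ z : M (k := k) K d, s • z = 0 := fun z => by
      rw [← IsScalarTower.algebraMap_smul K s z, hs, zero_smul]
    have hFG : ∀ i : Fin n, ∀ z, ext0 K f i.val (ext0 K g i.val z) = 0 := fun i z => by
      rw [hF, hG, ← LinearMap.comp_apply, ← LinearMap.baseChange_comp, (hI i).1]; simp [hs0]
    have hGF : ∀ i : Fin n, ∀ z, ext0 K g i.val (ext0 K f i.val z) = 0 := fun i z => by
      rw [hF, hG, ← LinearMap.comp_apply, ← LinearMap.baseChange_comp, (hI i).2]; simp [hs0]
    let A : ℕ → Submodule K (M (k := k) K d) := fun i =>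
      match i with
      | 0 => ⊥
      | i + 1 => Submodule.map (ext0 K f i) (Vn i)
    let B : ℕ → Submodule K (M (k := k) K d) := fun i =>
      if i < n then Submodule.map (ext0 K g i) (Vn (i + 1)) else ⊥
    have hAV : ∀ i ≤ n, A i ≤ Vn i := by
      rintro (_ | i) hi
      · exact bot_le
      · exact hlf i (by omega)
    have hBV : ∀ i ≤ n, B i ≤ Vn i := by
      intro i _
      simp only [B]
      split_ifs with h
      · exact hlg i h
      · exact bot_le
    have hAB : ∀ i ≤ n, Disjoint (A i) (B i) := by
      rintro (_ | i) hi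
      · exact disjoint_bot_left
      · rw [Submodule.disjoint_def]
        intro x hxA hxB
        simp only [B] at hxB
        split_ifs at hxB with h
        · obtain ⟨u, -, rfl⟩ := hxA
          obtain ⟨v, -, hv⟩ := hxB
          have h0 : ext0 K f (i + 1) (ext0 K f i u) = 0 := by rw [← hv]; exact hFG ⟨i + 1, h⟩ v
          exact hff i h u h0
        · exact hxB
    have hW : ∀ i : Fin (n + 1), ∃ W : Submodule K (M (k := k) K d),
        W ≤ Vn i.val ∧ (A i.val ⊔ B i.val) ⊔ W = Vn i.val ∧ Disjoint (A i.val ⊔ B i.val) W := fun i =>
      exists_compl_in _ _ (sup_le (hAV i.val (Nat.lt_succ_iff.mp i.isLt)) (hBV i.val (Nat.lt_succ_iff.mp i.isLt)))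
    choose W hWV hWsup hWdis using hW
    let w : Fin (n + 1) → ℕ := fun i => Module.finrank K (W i)
    have hsum : ∀ i : Fin (n + 1), Module.finrank K (A i.val) + Module.finrank K (B i.val) + w i = r := by
      intro i
      have h1 := Submodule.finrank_sup_add_finrank_inf_eq (A i.val) (B i.val)
      rw [(hAB i.val (Nat.lt_succ_iff.mp i.isLt)).eq_bot, finrank_bot] at h1
      have h2 := Submodule.finrank_sup_add_finrank_inf_eq (A i.val ⊔ B i.val) (W i)
      rw [(hWdis i).eq_bot, finrank_bot, hWsup i, hdim i.val (Nat.lt_succ_iff.mp i.isLt)] at h2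
      have h3 : w i = Module.finrank K (W i) := rfl
      omega
    have hstep : ∀ i : Fin n, Module.finrank K (A (i.val + 1)) + Module.finrank K (B i.val) = r := by
      intro i
      let φ : ↥(Vn i.val) →ₗ[K] M (k := k) K d := (ext0 K f i.val).domRestrict (Vn i.val)
      have hrange : LinearMap.range φ = A (i.val + 1) := LinearMap.range_domRestrict _ _
      have hker : Submodule.map (Vn i.val).subtype (LinearMap.ker φ) = B i.val := by
        apply le_antisymm
        · rintro _ ⟨z, hz, rfl⟩
          have := (hx i).2
          rw [← hG, ← hF, ← hVn, ← hVn] at this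
          simp only [B, if_pos i.isLt]
          exact this ⟨hz, z.2⟩
        · intro z hz
          refine ⟨⟨z, hBV i.val i.isLt.le hz⟩, ?_, rfl⟩
          simp only [B, if_pos i.isLt] at hz
          obtain ⟨v, -, rfl⟩ := hz
          exact hFG i v
      have h1 := LinearMap.finrank_range_add_finrank_ker (V := ↥(Vn i.val)) (V₂ := M (k := k) K d) φ
      rw [hrange, hdim i.val i.isLt.le] at h1
      rw [← hker, ← (Submodule.equivMapOfInjective _ (Vn i.val).injective_subtype (LinearMap.ker φ)).finrank_eq]
      exact h1
    have hcum : ∀ i (hi : i ≤ n), Module.finrank K (A i) = ∑ j : Fin i, w ⟨j.val, by omega⟩ := by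
      intro i
      induction i with
      | zero => intro _; simp [A]
      | succ i ih =>
        intro hi
        have h1 : Module.finrank K (A (i + 1)) + Module.finrank K (B i) = r := hstep ⟨i, by omega⟩
        have h2 : Module.finrank K (A i) + Module.finrank K (B i) + w ⟨i, by omega⟩ = r := hsum ⟨i, by omega⟩
        have h3 := ih (by omega)
        rw [Fin.sum_univ_castSucc]
        simp only [Fin.val_castSucc, Fin.val_last]
        rw [← h3]
        omega
    have hr : ∑ j : Fin (n + 1), w j = r := by
      rw [Fin.sum_univ_castSucc]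
      have h1 := hsum (Fin.last n)
      have h2 : Module.finrank K (B n) = 0 := by simp [B]
      have h3 : ∑ i : Fin n, w i.castSucc = Module.finrank K (A n) := (hcum n le_rfl).symm
      simp only [Fin.val_last] at h1
      omega
    let ι := Σ i : Fin (n + 1), Fin (w i)
    let eι : Fin r ≃ ι := (Fintype.equivFinOfCardEq (by rw [Fintype.card_sigma]; simpa using hr)).symm
    let bW := fun i => Module.finBasis K ↥(W i)
    let J : Fin r → Fin (n + 1) := fun a => (eι a).1
    let v : Fin r → M (k := k) K d := fun a => (bW (eι a).1 (eι a).2).1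
    have hvmem : ∀ a, v a ∈ (V (J a)).toSubmodule := fun a => by
      rw [← hVn]; exact hWV _ (bW (eι a).1 (eι a).2).2
    refine ⟨J, v, hvmem, fun i => ?_, fun h => absurd hs h⟩
    let S : ℕ → Submodule K (M (k := k) K d) := fun i =>
      Submodule.span K (Set.range fun a => path f g K (J a).val i (v a))
    have hlink := map_span_le f g K s hI (fun a => (J a).val) v
    have hWS : ∀ i : Fin (n + 1), W i ≤ S i.val := by
      intro i x hx'
      have : x ∈ Submodule.span K (Set.range fun c => ((bW i c : ↥(W i)) : M (k := k) K d)) := by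
        have h := congrArg (Submodule.map (W i).subtype) (bW i).span_eq
        rw [Submodule.map_span, ← Set.range_comp, Submodule.map_subtype_top] at h
        rw [show (Set.range fun c => ((bW i c : ↥(W i)) : M (k := k) K d)) = Set.range ((W i).subtype ∘ bW i) from rfl, h]
        exact hx'
      refine (Submodule.span_le.mpr ?_) this
      rintro _ ⟨c, rfl⟩
      refine Submodule.subset_span ⟨eι.symm ⟨i, c⟩, ?_⟩
      simp only [J, v]
      rw [Equiv.apply_symm_apply, path_self, Module.End.one_apply]
    have hVS_of : ∀ i : Fin (n + 1), A i.val ≤ S i.val → B i.val ≤ S i.val → Vn i.val ≤ S i.val := fun i h1 h2 => by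
      rw [← hWsup i]; exact sup_le (sup_le h1 h2) (hWS i)
    have hA : ∀ i ≤ n, A i ≤ S i := by
      intro i
      induction i with
      | zero => intro _; exact bot_le
      | succ i ih =>
        intro hi
        let i' : Fin n := ⟨i, by omega⟩
        change Submodule.map (ext0 K f i) (Vn i) ≤ _
        rw [← hWsup ⟨i, by omega⟩, Submodule.map_sup, Submodule.map_sup]
        refine sup_le (sup_le ?_ ?_) ?_
        · refine (Submodule.map_mono (ih (by omega))).trans ?_
          rw [hF i']; exact (hlink i').1
        · simp only [B, if_pos (show i < n by omega)]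
          rintro _ ⟨_, ⟨z, -, rfl⟩, rfl⟩
          rw [hFG i' z]; exact zero_mem _
        · refine (Submodule.map_mono (hWS ⟨i, by omega⟩)).trans ?_
          rw [hF i']; exact (hlink i').1
    have hB : ∀ t i, i + t = n → B i ≤ S i := by
      intro t
      induction t with
      | zero => intro i hi; simp only [B, if_neg (show ¬ i < n by omega)]; exact bot_le
      | succ t ih =>
        intro i hi
        let i' : Fin n := ⟨i, by omega⟩
        simp only [B, if_pos (show i < n by omega)]
        rw [← hWsup ⟨i + 1, by omega⟩, Submodule.map_sup, Submodule.map_sup]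
        refine sup_le (sup_le ?_ ?_) ?_
        · rintro _ ⟨_, ⟨z, -, rfl⟩, rfl⟩
          rw [hGF i' z]; exact zero_mem _
        · refine (Submodule.map_mono (ih (i + 1) (by omega))).trans ?_
          rw [hG i']; exact (hlink i').2
        · refine (Submodule.map_mono (hWS ⟨i + 1, by omega⟩)).trans ?_
          rw [hG i']; exact (hlink i').2
    have hle := hVS_of i (hA i.val (Nat.lt_succ_iff.mp i.isLt)) (hB (n - i.val) i.val (by have := i.isLt; omega))
    rw [linearIndependent_iff_card_le_finrank_span, Fintype.card_fin, Set.finrank]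
    have := Submodule.finrank_mono hle
    rw [hdim i.val (Nat.lt_succ_iff.mp i.isLt)] at this
    exact this

end Groth.Agent.LG86

end
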