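import Groth.Agent.LG86.Lin

/-!
# Bases over local rings with residue field the base field
-/

set_option autoImplicit false

universe u

open TensorProduct

noncomputable section

namespace Groth.Agent.LG86

variable {k : Type u} [Field k] {d r n : ℕ}

/-- A family reducing to part of a basis is part of a basis. -/
theorem exists_basis_extend {A : Type u} [CommRing A] [IsLocalRing A] [Algebra k A] (ε : A →ₐ[k] k)
    (v : Fin r → M (k := k) A d) (hv : LinearIndependent k fun a => ch ε (v a)) :
    ∃ (ι : Type u) (_ : Fintype ι) (b : Module.Basis (Fin r ⊕ ι) A (M (k := k) A d)),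
      (∀ a, b (Sum.inl a) = v a) ∧ Fintype.card ι + r = d := by
  classical
  let sX := Set.range fun a => ch ε (v a)
  have hs : LinearIndepOn k id sX := hv.linearIndepOn_id
  let b0 := Module.Basis.extend hs
  have hsub : sX ⊆ hs.extend (Set.subset_univ sX) := hs.subset_extend (Set.subset_univ _)
  haveI : Finite ↥(hs.extend (Set.subset_univ sX)) := Module.Finite.finite_basis b0
  let S' := hs.extend (Set.subset_univ sX) \ sX
  haveI : Finite ↥S' := Finite.Set.subset (hs.extend (Set.subset_univ sX)) Set.sdiff_subset
  haveI : Fintype ↥S' := Fintype.ofFinite _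
  have hsurj : Function.Surjective (ch (d := d) ε) := LinearMap.rTensor_surjective _ (fun c => ⟨algebraMap k A c, ε.commutes c⟩)
  choose lift hlift using hsurj
  let w : Fin r ⊕ ↥S' → M (k := k) A d := Sum.elim v fun x => lift x.1
  have hrange : Set.range (fun i => ch ε (w i)) = hs.extend (Set.subset_univ sX) := by
    ext x
    constructor
    · rintro ⟨a | y, rfl⟩
      · exact hsub ⟨a, rfl⟩
      · simp only [w, Sum.elim_inr, hlift]; exact y.2.1
    · intro hx
      by_cases hxs : x ∈ sX
      · obtain ⟨a, rfl⟩ := hxs; exact ⟨Sum.inl a, rfl⟩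
      · exact ⟨Sum.inr ⟨x, hx, hxs⟩, by simp [w, hlift]⟩
  have hcard : Fintype.card ↥S' + r = d := by
    have h1 : Module.finrank k (M (k := k) k d) = d := by
      rw [Module.finrank_eq_card_basis (stdB k d), Fintype.card_fin]
    have h2 := Module.finrank_eq_nat_card_basis b0
    have e : Fin r ⊕ ↥S' ≃ ↥(hs.extend (Set.subset_univ sX)) :=
      (Equiv.sumCongr (Equiv.ofInjective _ hv.injective) (Equiv.refl _)).trans (Equiv.Set.sumDiffSubset hsub)
    rw [h1, ← Nat.card_congr e, Nat.card_eq_fintype_card, Fintype.card_sum, Fintype.card_fin] at h2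
    omega
  have hspan : Submodule.span A (Set.range w) = ⊤ := by
    let R := Submodule.span A (Set.range w)
    refine Submodule.eq_top_iff'.mpr fun z => ?_
    have hle : (⊤ : Submodule A (M (k := k) A d)) ≤ R ⊔ IsLocalRing.maximalIdeal A • ⊤ := by
      intro z _
      have hz : ch ε z ∈ Submodule.span k (Set.range fun i => ch ε (w i)) := by
        rw [hrange]
        have := b0.span_eq
        rw [Module.Basis.range_extend] at this
        rw [this]; trivial
      obtain ⟨c, hc⟩ := (Submodule.mem_span_range_iff_exists_fun k).mp hz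
      have hker : ∀ y : M (k := k) A d, ch ε y = 0 → y ∈ IsLocalRing.maximalIdeal A • (⊤ : Submodule A _) := by
        intro y hy
        rw [← (stdB A d).sum_repr y]
        refine Submodule.sum_mem _ fun i _ => Submodule.smul_mem_smul ?_ Submodule.mem_top
        have h2 : ch ε y = ∑ c, ε ((stdB A d).repr y c) • stdB k d c := by
          conv_lhs => rw [← (stdB A d).sum_repr y]
          simp only [map_sum, ch_smul, ch_stdB]
        have h := congrArg (fun t => (stdB k d).repr t i) hy
        simp only [h2, Module.Basis.repr_sum_self, map_zero, Finsupp.coe_zero, Pi.zero_apply] at h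
        have hmax : RingHom.ker ε = IsLocalRing.maximalIdeal A :=
          IsLocalRing.eq_maximalIdeal (RingHom.ker_isMaximal_of_surjective ε fun c => ⟨algebraMap k A c, ε.commutes c⟩)
        rw [← hmax]; exact h
      refine Submodule.mem_sup.mpr ⟨∑ i, algebraMap k A (c i) • w i, Submodule.sum_mem _ fun i _ =>
        Submodule.smul_mem _ _ (Submodule.subset_span ⟨i, rfl⟩), _, hker (z - _) ?_, add_sub_cancel _ _⟩
      rw [map_sub, map_sum]
      simp only [ch_smul, AlgHom.commutes, Algebra.algebraMap_self, RingHom.id_apply]
      rw [hc, sub_self]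
    have hfg : (⊤ : Submodule A (M (k := k) A d)).FG := Module.Finite.fg_top
    exact Submodule.le_of_le_smul_of_le_jacobson_bot hfg (IsLocalRing.maximalIdeal_le_jacobson _) hle Submodule.mem_top
  have hli : LinearIndependent A w := by
    refine linearIndependent_of_top_le_span_of_card_eq_finrank hspan.ge ?_
    rw [Module.finrank_eq_card_basis (stdB (k := k) A d), Fintype.card_fin, Fintype.card_sum, Fintype.card_fin]
    omega
  exact ⟨↥S', inferInstance, Module.Basis.mk hli hspan.ge, fun a => by simp [w], hcard⟩

/-- The point of the Grassmannian spanned by lifts of independent vectors, and its uniqueness. -/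
theorem exists_grass {A : Type u} [CommRing A] [IsLocalRing A] [Algebra k A] (ε : A →ₐ[k] k)
    (v : Fin r → M (k := k) A d) (hv : LinearIndependent k fun a => ch ε (v a)) :
    ∃ N : Module.Grassmannian A (M (k := k) A d) (d - r), N.toSubmodule = Submodule.span A (Set.range v) ∧
      ∀ N' : Module.Grassmannian A (M (k := k) A d) (d - r), (∀ a, v a ∈ N'.toSubmodule) → N' = N := by
  obtain ⟨ι, _, b, hb, hcard⟩ := exists_basis_extend ε v hv
  let π : M (k := k) A d →ₗ[A] (ι → A) := LinearMap.pi fun i => b.coord (Sum.inr i)
  have hker : LinearMap.ker π = Submodule.span A (Set.range v) := by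
    apply le_antisymm
    · intro z hz
      rw [← b.sum_repr z, Fintype.sum_sum_type]
      refine add_mem (Submodule.sum_mem _ fun a _ => by
        rw [hb]; exact Submodule.smul_mem _ _ (Submodule.subset_span ⟨a, rfl⟩)) ?_
      refine Submodule.sum_mem _ fun i _ => ?_
      have : b.repr z (Sum.inr i) = 0 := congrFun hz i
      rw [this, zero_smul]; exact zero_mem _
    · rw [Submodule.span_le]
      rintro _ ⟨a, rfl⟩
      ext i
      simp [π, ← hb]
  have hsurj : Function.Surjective π := by
    intro c
    classical
    refine ⟨∑ i, c i • b (Sum.inr i), ?_⟩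
    ext j
    simp [π, Finsupp.single_apply]
  let eq : (M (k := k) A d ⧸ Submodule.span A (Set.range v)) ≃ₗ[A] (ι → A) :=
    (Submodule.quotEquivOfEq _ _ hker.symm).trans (π.quotKerEquivOfSurjective hsurj)
  haveI : Module.Free A (M (k := k) A d ⧸ Submodule.span A (Set.range v)) := Module.Free.of_equiv eq.symm
  haveI : Module.Finite A (M (k := k) A d ⧸ Submodule.span A (Set.range v)) := Module.Finite.equiv eq.symm
  have hfr : Module.finrank A (M (k := k) A d ⧸ Submodule.span A (Set.range v)) = d - r := by
    rw [LinearEquiv.finrank_eq eq, Module.finrank_fintype_fun_eq_card]; omega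
  refine ⟨⟨Submodule.span A (Set.range v), inferInstance, inferInstance, fun p => ?_⟩, rfl, fun N' hN' => ?_⟩
  · rw [Module.rankAtStalk_eq_finrank_of_free]; exact hfr
  · have hle : Submodule.span A (Set.range v) ≤ N'.toSubmodule := Submodule.span_le.mpr (by rintro _ ⟨a, rfl⟩; exact hN' a)
    refine Module.Grassmannian.ext (le_antisymm ?_ hle)
    intro z hz
    let ρ : (M (k := k) A d ⧸ Submodule.span A (Set.range v)) →ₗ[A] M (k := k) A d ⧸ N'.toSubmodule :=
      Submodule.factor hle
    haveI : Module.Free A (M (k := k) A d ⧸ N'.toSubmodule) := Module.free_of_flat_of_isLocalRing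
    have hfr' : Module.finrank A (M (k := k) A d ⧸ N'.toSubmodule) = d - r := by
      have := N'.rankAtStalk_eq (IsLocalRing.closedPoint A)
      rwa [Module.rankAtStalk_eq_finrank_of_free] at this
    let e := LinearEquiv.ofFinrankEq (R := A) (M := M (k := k) A d ⧸ N'.toSubmodule)
      (M' := M (k := k) A d ⧸ Submodule.span A (Set.range v)) (hfr'.trans hfr.symm)
    have hbij : Function.Bijective (e.toLinearMap ∘ₗ ρ) :=
      OrzechProperty.bijective_of_surjective_endomorphism _ (e.surjective.comp (Submodule.factor_surjective hle))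
    rw [← Submodule.Quotient.mk_eq_zero (Submodule.span A (Set.range v))]
    apply hbij.1
    simp [ρ, Submodule.factor, Submodule.mapQ_apply, (Submodule.Quotient.mk_eq_zero _).mpr hz]

end Groth.Agent.LG86

end
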