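import Groth.Agent.LG86.Rep
import Groth.Agent.LG86.LinField
import Groth.Agent.LG86.ExactBasis

/-!
# A scheme representing the linked Grassmannian functor: finite presentation and smoothness at exact points
-/

set_option autoImplicit false
set_option maxHeartbeats 1000000

universe u

open TensorProduct CategoryTheory AlgebraicGeometry IsLocalRing

noncomputable section

namespace Groth.Agent.LG86

variable {k : Type u} [Field k] {d r n : ℕ} (f g : Fin n → ((Fin d → k) →ₗ[k] (Fin d → k)))
  (X : Over (Spec (CommRingCat.of k)))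

variable {f g X} (E : Rep (r := r) f g X)

theorem bijective_toStalk (K : Type u) [Field K] (y : PrimeSpectrum K) :
    Function.Bijective (StructureSheaf.toStalk K y) := by
  constructor
  · intro a b hab
    by_contra hne
    have hu : IsUnit (a - b) := IsUnit.mk0 _ (sub_ne_zero.mpr hne)
    have h0u := hu.map (StructureSheaf.toStalk K y).hom
    rw [map_sub, hab, sub_self] at h0u
    haveI hloc : IsLocalRing ((Spec.structureSheaf K).presheaf.stalk y) :=
      IsLocalization.AtPrime.isLocalRing _ y.asIdeal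
    haveI : Nontrivial ((AlgebraicGeometry.structurePresheafInCommRingCat K).stalk y) := hloc.toNontrivial
    exact not_isUnit_zero h0u
  · intro z
    obtain ⟨⟨a, s⟩, hs⟩ := IsLocalization.surj (S := ((Spec.structureSheaf K).presheaf.stalk y)) y.asIdeal.primeCompl z
    have hs0 : (s : K) ≠ 0 := fun h0 => s.2 (h0 ▸ y.asIdeal.zero_mem)
    refine ⟨a * (s : K)⁻¹, ?_⟩
    have hs' : z * (StructureSheaf.toStalk K y).hom (s : K) = (StructureSheaf.toStalk K y).hom a := hs
    show (StructureSheaf.toStalk K y).hom (a * (s : K)⁻¹) = z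
    rw [map_mul, ← hs', mul_assoc, ← map_mul, mul_inv_cancel₀ hs0, map_one, mul_one]

theorem stalkMap_formallySmooth_of_preimage (pt : X.left)
    (h : (Spec.preimage (X.left.fromSpecStalk pt ≫ X.hom)).hom.FormallySmooth) :
    (X.hom.stalkMap pt).hom.FormallySmooth := by
  let y := X.hom pt
  let τ : CommRingCat.of k ⟶ (Spec (CommRingCat.of k)).presheaf.stalk y := StructureSheaf.toStalk k y
  have hτ : Function.Bijective τ := bijective_toStalk k y
  have hcomp : τ ≫ X.hom.stalkMap pt = Spec.preimage (X.left.fromSpecStalk pt ≫ X.hom) := by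
    apply Spec.map_injective
    rw [Spec.map_preimage, Spec.map_comp, ← Scheme.SpecMap_stalkMap_fromSpecStalk, Spec.fromSpecStalk_eq']
    rfl
  haveI : IsIso τ := (ConcreteCategory.isIso_iff_bijective τ).mpr hτ
  have e : X.hom.stalkMap pt = inv τ ≫ Spec.preimage (X.left.fromSpecStalk pt ≫ X.hom) := by
    rw [← hcomp, IsIso.inv_hom_id_assoc]
  rw [e, CommRingCat.hom_comp]
  exact RingHom.FormallySmooth.comp (RingHom.FormallySmooth.of_bijective (ConcreteCategory.bijective_of_isIso (inv τ))) h

theorem SpecMap_congr_fromSpecStalk {Y : Scheme.{u}} {S : CommRingCat.{u}} [IsLocalRing S] (yl : Spec S ⟶ Y) (pt : Y)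
    (h : yl (closedPoint S) = pt) :
    Spec.map ((Y.presheaf.stalkCongr (.of_eq h.symm)).hom ≫ Scheme.stalkClosedPointTo yl) ≫ Y.fromSpecStalk pt = yl := by
  subst h
  simp only [TopCat.Presheaf.stalkCongr_hom, TopCat.Presheaf.stalkSpecializes_refl, Category.id_comp]
  exact Scheme.Spec_stalkClosedPointTo_fromSpecStalk yl

include E in
theorem formallySmooth_stalk (hrd : r ≤ d) (s : k)
    (hI : ∀ i, (f i).comp (g i) = s • LinearMap.id ∧ (g i).comp (f i) = s • LinearMap.id)
    (hff : ∀ i, i + 1 < n → ∀ z : M (k := k) k d, ext0 k f (i + 1) (ext0 k f i z) = 0 → ext0 k f i z = 0)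
    (x : specOver (CommAlgCat.of k k) ⟶ X)
    (hx : W4c1limliniiii.IsExact k d r n f g (CommAlgCat.of k k) (E.e (CommAlgCat.of k k) x).1) :
    (Spec.preimage (X.left.fromSpecStalk (x.left (closedPoint k)) ≫ X.hom)).hom.FormallySmooth := by
  let xl : Spec (CommRingCat.of k) ⟶ X.left := x.left
  set pt := x.left (closedPoint k) with hpt
  let R := X.left.presheaf.stalk pt
  let αR : CommRingCat.of k ⟶ R := Spec.preimage (X.left.fromSpecStalk pt ≫ X.hom)
  letI : Algebra k R := αR.hom.toAlgebra
  let Rk : CommAlgCat.{u} k := CommAlgCat.of k R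
  let xR : specOver Rk ⟶ X := Over.homMk (X.left.fromSpecStalk pt) (by
    change _ = Spec.map (CommRingCat.ofHom αR.hom)
    exact (Spec.map_preimage (X.left.fromSpecStalk pt ≫ X.hom)).symm)
  -- the residue map of the rational point
  let εc : R ⟶ CommRingCat.of k := Scheme.stalkClosedPointTo xl
  have hεc : Spec.map εc ≫ X.left.fromSpecStalk pt = x.left := Scheme.Spec_stalkClosedPointTo_fromSpecStalk xl
  have hεα : αR ≫ εc = 𝟙 (CommRingCat.of k) := by
    apply Spec.map_injective
    rw [Spec.map_comp, Spec.map_preimage, ← Category.assoc, hεc, Spec.map_id, Over.w x]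
    change Spec.map (CommRingCat.ofHom (algebraMap k k)) = _
    rw [Algebra.algebraMap_self]
    exact Spec.map_id _
  let ε : R →ₐ[k] k :=
    { εc.hom with commutes' := fun c => congrArg (fun φ : CommRingCat.of k ⟶ CommRingCat.of k => φ.hom c) hεα }
  let V := (E.e Rk xR).1
  have hV : V ∈ W4c1limliniiii.LGPoints k d r n f g R := (E.e Rk xR).2
  let V0 := (E.e (CommAlgCat.of k k) x).1
  have hV0 : ∀ i, V0 i = Module.Grassmannian.map ε (V i) := E.he Rk (CommAlgCat.of k k) (CommAlgCat.ofHom ε) xR x hεc.symm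
  obtain ⟨J, v0, hv0, hind, -⟩ := exists_propagation_basis f g hrd s hI hff V0 (E.e (CommAlgCat.of k k) x).2 hx
  have hεsurj : Function.Surjective ε := fun c => ⟨algebraMap k R c, ε.commutes c⟩
  have hlift : ∀ a, ∃ w ∈ (V (J a)).toSubmodule, ch ε w = v0 a := fun a =>
    exists_lift_mem ε hεsurj (by rw [← hV0]; exact hv0 a)
  choose w hwmem hw using hlift
  -- the chart
  let P := MvPolynomial (Fin r × Fin d) k
  let ψ0 : P →ₐ[k] R := MvPolynomial.aeval fun p => (stdB R d).repr (w p.1) p.2
  let evP : P →ₐ[k] k := ε.comp ψ0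
  let q : Ideal P := RingHom.ker evP
  haveI hq : q.IsPrime := RingHom.ker_isPrime _
  let S := Localization.AtPrime q
  have hεmax : RingHom.ker ε = maximalIdeal R := IsLocalRing.eq_maximalIdeal (RingHom.ker_isMaximal_of_surjective ε hεsurj)
  have hunit : ∀ z : q.primeCompl, IsUnit (ψ0 z) := by
    intro z
    by_contra hz
    rw [← mem_nonunits_iff, ← IsLocalRing.mem_maximalIdeal, ← hεmax] at hz
    exact z.2 hz
  let ψ : S →ₐ[k] R := IsLocalization.liftAlgHom (M := q.primeCompl) (f := ψ0) hunit
  let εS : S →ₐ[k] k := ε.comp ψ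
  have hψ : ∀ z : P, ψ (algebraMap P S z) = ψ0 z := fun z => IsLocalization.lift_eq _ _
  let W : Fin r → M (k := k) S d := fun a => ∑ c, algebraMap P S (MvPolynomial.X (a, c)) • stdB S d c
  have hW : ∀ a, ch ψ (W a) = w a := by
    intro a
    have hX : ∀ c, ψ0 (MvPolynomial.X (a, c)) = (stdB R d).repr (w a) c := fun c => MvPolynomial.aeval_X _ _
    simp only [W, map_sum, ch_smul, ch_stdB, hψ, hX]
    exact (stdB R d).sum_repr (w a)
  have hW0 : ∀ a, ch εS (W a) = v0 a := fun a => by rw [ch_comp, hW, hw]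
  have hindS : ∀ i : Fin (n + 1), LinearIndependent k fun a => ch εS (path f g S (J a).val i.val (W a)) := by
    intro i; simp only [ch_path, hW0]; exact hind i
  have hindR : ∀ i : Fin (n + 1), LinearIndependent k fun a => ch ε (path f g R (J a).val i.val (w a)) := by
    intro i; simp only [ch_path, hw]; exact hind i
  choose VS hVS hVSu using fun i : Fin (n + 1) => exists_grass εS (fun a => path f g S (J a).val i.val (W a)) (hindS i)
  have hVSmem : VS ∈ W4c1limliniiii.LGPoints k d r n f g S := fun i => by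
    rw [hVS, hVS, Fin.val_castSucc, Fin.val_succ]
    exact map_span_le f g S s hI (fun a => (J a).val) W i
  have hmapψ : ∀ i, Module.Grassmannian.map ψ (VS i) = V i := by
    intro i
    obtain ⟨N, -, hNu⟩ := exists_grass ε (fun a => path f g R (J a).val i.val (w a)) (hindR i)
    refine (hNu _ fun a => ?_).trans (hNu _ fun a => path_mem_point hV (J a) (hwmem a) i).symm
    rw [← hW a, ← ch_path]
    exact ch_mem ψ (by rw [hVS]; exact Submodule.subset_span ⟨a, rfl⟩)
  have hmapεS : ∀ i, Module.Grassmannian.map εS (VS i) = V0 i := fun i => by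
    rw [Module.Grassmannian.map_comp (d - r) ψ ε, hmapψ, hV0]
  let Sk : CommAlgCat.{u} k := CommAlgCat.of k S
  let yS : specOver Sk ⟶ X := (E.e Sk).symm ⟨VS, hVSmem⟩
  have hyS : (E.e Sk yS).1 = VS := by rw [Equiv.apply_symm_apply]
  have hxy : x.left = Spec.map (CommRingCat.ofHom εS.toRingHom) ≫ yS.left :=
    E.eq_comp (A := Sk) (B := CommAlgCat.of k k) (CommAlgCat.ofHom εS) yS x fun i => by
      rw [hyS]; exact (hmapεS i).symm
  have hRy : X.left.fromSpecStalk pt = Spec.map (CommRingCat.ofHom ψ.toRingHom) ≫ yS.left :=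
    E.eq_comp (A := Sk) (B := Rk) (CommAlgCat.ofHom ψ) yS xR fun i => by
      rw [hyS]; exact (hmapψ i).symm
  let yl : Spec (CommRingCat.of S) ⟶ X.left := yS.left
  have hclosed : yl (closedPoint S) = pt := by
    have hcp : Spec.map (CommRingCat.ofHom εS.toRingHom) (closedPoint k) = closedPoint S := by
      apply PrimeSpectrum.ext
      change Ideal.comap εS (maximalIdeal k) = maximalIdeal S
      rw [IsLocalRing.maximalIdeal_eq_bot]
      exact IsLocalRing.eq_maximalIdeal (RingHom.ker_isMaximal_of_surjective εS fun c => ⟨algebraMap k S c, εS.commutes c⟩)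
    rw [hpt, ← hcp, hxy]
    rfl
  let φc : R ⟶ CommRingCat.of S :=
    (X.left.presheaf.stalkCongr (.of_eq hclosed.symm)).hom ≫ Scheme.stalkClosedPointTo yl
  have hφc : Spec.map φc ≫ X.left.fromSpecStalk pt = yl := SpecMap_congr_fromSpecStalk yl pt hclosed
  have hφα : αR ≫ φc = CommRingCat.ofHom (algebraMap k S) := by
    apply Spec.map_injective
    rw [Spec.map_comp, Spec.map_preimage, ← Category.assoc, hφc]
    exact Over.w yS
  let φ : R →ₐ[k] S :=
    { φc.hom with commutes' := fun c => congrArg (fun t : CommRingCat.of k ⟶ CommRingCat.of S => t.hom c) hφα }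
  have hid : φc ≫ CommRingCat.ofHom ψ.toRingHom = 𝟙 R := by
    apply Spec.map_injective
    rw [← cancel_mono (X.left.fromSpecStalk pt), Spec.map_comp, Category.assoc, hφc, Spec.map_id]
    exact hRy.symm.trans (Category.id_comp _).symm
  haveI : Algebra.FormallySmooth P S := Algebra.FormallySmooth.of_isLocalization q.primeCompl
  haveI : Algebra.FormallySmooth k S := Algebra.FormallySmooth.comp k P S
  have hfs : Algebra.FormallySmooth k R := by
    refine Algebra.FormallySmooth.of_split ψ ((Ideal.Quotient.mkₐ k _).comp φ) ?_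
    apply AlgHom.ext
    intro z
    exact congrArg (fun t : R ⟶ R => t.hom z) hid
  rw [RingHom.FormallySmooth]
  exact hfs

set_option backward.isDefEq.respectTransparency.types false in
include E in
theorem locallyOfFinitePresentation (hrd : r ≤ d) : LocallyOfFinitePresentation X.hom := by
  refine (IsZariskiLocalAtSource.iff_of_iSup_eq_top (P := @LocallyOfFinitePresentation.{u}) _
    (iSup_affineOpens_eq_top X.left)).mpr fun U => ?_
  let B := Γ(X.left, U.1)
  let ι : Spec B ⟶ X.left := U.2.fromSpec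
  let αB : CommRingCat.of k ⟶ B := Spec.preimage (ι ≫ X.hom)
  letI : Algebra k B := αB.hom.toAlgebra
  let Bk : CommAlgCat.{u} k := CommAlgCat.of k B
  let xB : specOver Bk ⟶ X := Over.homMk ι (by
    change _ = Spec.map (CommRingCat.ofHom αB.hom)
    exact (Spec.map_preimage (ι ≫ X.hom)).symm)
  let V := (E.e Bk xB).1
  have hV : V ∈ W4c1limliniiii.LGPoints k d r n f g B := (E.e Bk xB).2
  -- projections onto the members
  have hP : ∀ i, ∃ Q : Module.End B (M (k := k) B d), (∀ z, Q (Q z) = Q z) ∧ LinearMap.ker Q = (V i).toSubmodule := by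
    intro i
    obtain ⟨σ, hσ⟩ := Module.projective_lifting_property (V i).toSubmodule.mkQ LinearMap.id (Submodule.mkQ_surjective _)
    refine ⟨σ.comp (V i).toSubmodule.mkQ, fun z => ?_, ?_⟩
    · simp only [LinearMap.comp_apply]
      exact congrArg σ (LinearMap.congr_fun hσ _)
    · rw [LinearMap.ker_comp_of_ker_eq_bot _ (LinearMap.ker_eq_bot_of_inverse hσ), Submodule.ker_mkQ]
  choose Q hQQ hQker using hP
  classical
  let coefs : Finset B := Finset.univ.image fun p : Fin (n + 1) × Fin d × Fin d =>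
    LinearMap.toMatrix (stdB B d) (stdB B d) (Q p.1) p.2.1 p.2.2
  let B0 : Subalgebra k B := Algebra.adjoin k (coefs : Set B)
  haveI : Algebra.FiniteType k B0 := ⟨Subalgebra.fg_top _ |>.mpr ⟨coefs, rfl⟩⟩
  haveI : IsNoetherianRing B0 := Algebra.FiniteType.isNoetherianRing k _
  let Q0m : Fin (n + 1) → Matrix (Fin d) (Fin d) B0 := fun i a b =>
    ⟨LinearMap.toMatrix (stdB B d) (stdB B d) (Q i) a b,
      Algebra.subset_adjoin (Finset.mem_coe.mpr (Finset.mem_image.mpr ⟨(i, a, b), Finset.mem_univ _, rfl⟩))⟩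
  let Q0 : Fin (n + 1) → Module.End B0 (M (k := k) B0 d) := fun i =>
    Matrix.toLin (stdB B0 d) (stdB B0 d) (Q0m i)
  have hch : ∀ (i : Fin (n + 1)) (z : M (k := k) B0 d), ch B0.val (Q0 i z) = Q i (ch B0.val z) := by
    intro i z
    rw [← (stdB B0 d).sum_repr z]
    simp only [map_sum, map_smul, ch_smul, ch_stdB]
    refine Finset.sum_congr rfl fun c _ => ?_
    congr 1
    rw [Matrix.toLin_self, ← (stdB B d).sum_repr (Q i (stdB B d c))]
    simp only [map_sum, ch_smul, ch_stdB]
    exact Finset.sum_congr rfl fun a _ => by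
      congr 1
      exact LinearMap.toMatrix_apply _ _ _ _ _
  have hinj : Function.Injective (ch (d := d) B0.val) := by
    intro z z' h
    apply (stdB B0 d).ext_elem
    intro c
    have hr : ∀ y : M (k := k) B0 d, (stdB B d).repr (ch B0.val y) c = B0.val ((stdB B0 d).repr y c) := by
      intro y
      have h2 : ch B0.val y = ∑ c, B0.val ((stdB B0 d).repr y c) • stdB B d c := by
        conv_lhs => rw [← (stdB B0 d).sum_repr y]
        simp only [map_sum, ch_smul, ch_stdB]
      rw [h2, Module.Basis.repr_sum_self]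
    exact Subtype.ext ((hr z).symm.trans ((congrArg (fun t => (stdB B d).repr t c) h).trans (hr z')))
  have hQ0 : ∀ i z, Q0 i (Q0 i z) = Q0 i z := fun i z => hinj (by rw [hch, hch, hQQ])
  have hker0 : ∀ i, (Module.Finite B0 (M (k := k) B0 d ⧸ LinearMap.ker (Q0 i))) ∧
      Module.Projective B0 (M (k := k) B0 d ⧸ LinearMap.ker (Q0 i)) := by
    intro i
    refine ⟨inferInstance, ?_⟩
    haveI : Module.Projective B0 (M (k := k) B0 d) := Module.Projective.of_basis (stdB B0 d)
    have hsplit : ((Q0 i).rangeRestrict).comp (LinearMap.range (Q0 i)).subtype = LinearMap.id := by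
      apply LinearMap.ext
      rintro ⟨_, z, rfl⟩
      exact Subtype.ext (hQ0 i z)
    haveI : Module.Projective B0 ↥(LinearMap.range (Q0 i)) := Module.Projective.of_split _ _ hsplit
    exact Module.Projective.of_equiv (LinearMap.quotKerEquivRange (Q0 i)).symm
  have hspan : ∀ i, Submodule.span B (ch B0.val '' (LinearMap.ker (Q0 i) : Set _)) = (V i).toSubmodule := by
    intro i
    rw [← hQker]
    apply le_antisymm
    · rw [Submodule.span_le]
      rintro _ ⟨z, hz, rfl⟩
      show Q i (ch B0.val z) = 0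
      rw [← hch, show Q0 i z = 0 from hz, map_zero]
    · intro z hz
      have hz' : z = z - Q i z := by rw [show Q i z = 0 from hz, sub_zero]
      rw [hz', ← (stdB B d).sum_repr z, map_sum, ← Finset.sum_sub_distrib]
      refine Submodule.sum_mem _ fun c _ => ?_
      rw [map_smul, ← smul_sub]
      refine Submodule.smul_mem _ _ (Submodule.subset_span ⟨stdB B0 d c - Q0 i (stdB B0 d c), ?_, ?_⟩)
      · show Q0 i _ = 0
        rw [map_sub, hQ0, sub_self]
      · rw [map_sub, hch, ch_stdB]
  have hrank : ∀ i (p : PrimeSpectrum B0),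
      Module.rankAtStalk (R := B0) (M (k := k) B0 d ⧸ LinearMap.ker (Q0 i)) p = d - r := by
    intro i p
    haveI := (hker0 i).1
    haveI := (hker0 i).2
    haveI : Module.FinitePresentation B0 (M (k := k) B0 d ⧸ LinearMap.ker (Q0 i)) := Module.finitePresentation_of_projective _ _
    obtain ⟨m, hm, hmp⟩ := Ideal.exists_minimalPrimes_le (J := p.asIdeal) (I := (⊥ : Ideal B0)) bot_le
    obtain ⟨P', hP', hP''⟩ := Ideal.exists_comap_eq_of_mem_minimalPrimes_of_injective
      (f := B0.val.toRingHom) Subtype.val_injective m hm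
    let pm : PrimeSpectrum B0 := ⟨m, Ideal.minimalPrimes_isPrime hm⟩
    let pB : PrimeSpectrum B := ⟨P', hP'⟩
    have hconst : Module.rankAtStalk (R := B0) (M (k := k) B0 d ⧸ LinearMap.ker (Q0 i)) p =
        Module.rankAtStalk (R := B0) (M (k := k) B0 d ⧸ LinearMap.ker (Q0 i)) pm := by
      have hsp : pm ⤳ p := (PrimeSpectrum.le_iff_specializes pm p).mp hmp
      exact ((hsp.map (Module.isLocallyConstant_rankAtStalk).continuous).eq).symm
    rw [hconst, show pm = PrimeSpectrum.comap B0.val.toRingHom pB from (PrimeSpectrum.ext hP'').symm]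
    exact rankAtStalk_quot_eq B0.val (LinearMap.ker (Q0 i)) (V i) (hspan i) pB
  let V' : Fin (n + 1) → Module.Grassmannian B0 (M (k := k) B0 d) (d - r) := fun i =>
    ⟨LinearMap.ker (Q0 i), (hker0 i).1, (hker0 i).2, hrank i⟩
  have hmap : ∀ i, Module.Grassmannian.map B0.val (V' i) = V i := fun i =>
    Module.Grassmannian.ext ((map_toSubmodule_eq B0.val (V' i)).trans (hspan i))
  have hV' : V' ∈ W4c1limliniiii.LGPoints k d r n f g B0 := by
    intro i
    constructor <;> rw [Submodule.map_le_iff_le_comap] <;> intro z hz <;>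
      rw [Submodule.mem_comap] <;> show Q0 _ _ = 0 <;> apply hinj <;> rw [map_zero, hch, ch_baseChange] <;>
      rw [← LinearMap.mem_ker, hQker]
    · refine (hV i).1 ⟨_, ?_, rfl⟩
      rw [← hmap]; exact ch_mem _ hz
    · refine (hV i).2 ⟨_, ?_, rfl⟩
      rw [← hmap]; exact ch_mem _ hz
  let B0k : CommAlgCat.{u} k := CommAlgCat.of k B0
  let y0 : specOver B0k ⟶ X := (E.e B0k).symm ⟨V', hV'⟩
  have hy0 : (E.e B0k y0).1 = V' := by rw [Equiv.apply_symm_apply]
  let incl : CommRingCat.of B0 ⟶ B := CommRingCat.ofHom B0.val.toRingHom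
  let yl : Spec (CommRingCat.of B0) ⟶ X.left := y0.left
  have hι : ι = Spec.map incl ≫ yl :=
    E.eq_comp (A := B0k) (B := Bk) (CommAlgCat.ofHom B0.val) y0 xB fun i => by rw [hy0]; exact (hmap i).symm
  let O := yl ⁻¹ᵁ U.1
  haveI : IsOpenImmersion ι := U.2.isOpenImmersion_fromSpec
  have hO : Set.range (O.ι ≫ yl) ⊆ Set.range ι := by
    rw [U.2.range_fromSpec]
    rintro _ ⟨z, rfl⟩
    exact z.2
  let h : O.toScheme ⟶ Spec B := IsOpenImmersion.lift ι (O.ι ≫ yl) hO
  have hh : h ≫ ι = O.ι ≫ yl := IsOpenImmersion.lift_fac _ _ _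
  have hS : Set.range (Spec.map incl) ⊆ Set.range O.ι := by
    rw [Scheme.Opens.range_ι]
    rintro _ ⟨z, rfl⟩
    show yl (Spec.map incl z) ∈ U.1
    rw [← Scheme.Hom.comp_apply, ← hι]
    have := U.2.range_fromSpec
    exact this.subset ⟨z, rfl⟩
  let sec : Spec B ⟶ O.toScheme := IsOpenImmersion.lift O.ι (Spec.map incl) hS
  have hsec : sec ≫ O.ι = Spec.map incl := IsOpenImmersion.lift_fac _ _ _
  have hid : sec ≫ h = 𝟙 _ := by
    rw [← cancel_mono ι, Category.assoc, hh, ← Category.assoc, hsec, ← hι, Category.id_comp]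
  haveI : LocallyOfFiniteType (sec ≫ h) := by rw [hid]; infer_instance
  haveI : LocallyOfFiniteType sec := locallyOfFiniteType_of_comp sec h
  haveI : LocallyOfFiniteType (Spec.map (CommRingCat.ofHom (algebraMap k B0))) :=
    (HasRingHomProperty.Spec_iff (P := @LocallyOfFiniteType)).mpr (RingHom.finiteType_algebraMap.mpr inferInstance)
  have hB : LocallyOfFiniteType (Spec.map αB) := by
    have e : Spec.map αB = (sec ≫ O.ι) ≫ Spec.map (CommRingCat.ofHom (algebraMap k B0)) := by
      rw [hsec, ← Spec.map_comp]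
      congr 1
    rw [e]
    infer_instance
  have hft : αB.hom.FiniteType := (HasRingHomProperty.Spec_iff (P := @LocallyOfFiniteType)).mp hB
  have hfp : LocallyOfFinitePresentation (Spec.map αB) :=
    (HasRingHomProperty.Spec_iff (P := @LocallyOfFinitePresentation)).mpr (RingHom.FinitePresentation.of_finiteType.mp hft)
  have e : U.1.ι ≫ X.hom = U.2.isoSpec.hom ≫ Spec.map αB := by
    rw [Spec.map_preimage]
    exact ((congrArg (· ≫ X.hom) U.2.isoSpec_hom_fromSpec).symm).trans (Category.assoc _ _ _)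
  rw [e]
  infer_instance

end Groth.Agent.LG86

end
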