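import Groth.Agent.LG86.Locus
import Groth.Agent.LG86.Scheme
import Groth.Agent.FBase.Dim
import Groth.Agent.CycLib.FibreDim

/-!
# Dimension and intersections of the components of a linked Grassmannian over a field
-/

set_option autoImplicit false
set_option maxHeartbeats 1000000

universe u

open TensorProduct CategoryTheory AlgebraicGeometry IsLocalRing

noncomputable section

namespace Groth.Agent.LG86

variable {k : Type u} [Field k] {d r n : ℕ} {f g : Fin n → ((Fin d → k) →ₗ[k] (Fin d → k))}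
  {X : Over (Spec (CommRingCat.of k))} (E : Rep (r := r) f g X) {s : k} (H : Hyp f g s) (hrd : r ≤ d)

include E H hrd in
theorem topDim_component (hlft : LocallyOfFiniteType X.hom) {Z : Set X.left} (hZ : Z ∈ irreducibleComponents X.left) :
    topologicalKrullDim ↥Z = (r * (d - r) : ℕ) := by
  obtain ⟨Δ, z, hzZ, hz⟩ := component_meets E H hrd hZ
  obtain ⟨-, η, hη, hηO⟩ := component_chart E H hrd hZ hzZ hz
  obtain ⟨w, -⟩ := hz
  have hemb := isOpenEmbedding_chart (Δ := Δ) (hrd := hrd) E H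
  let O : X.left.Opens := ⟨_, hemb.isOpen_range⟩
  let : X.left.Over (Spec (CommRingCat.of k)) := ⟨X.hom⟩
  have : LocallyOfFiniteType (X.left ↘ Spec (CommRingCat.of k)) := hlft
  -- dimension of the chart
  let P : Type u := MvPolynomial (Fin r × Fin (d - r)) k
  let j : Spec (CommRingCat.of (Q f g Δ hrd)) ⟶ Spec (CommRingCat.of P) :=
    Spec.map (CommRingCat.ofHom (algebraMap P (Q f g Δ hrd)))
  haveI : IsOpenImmersion j := IsOpenImmersion.of_isLocalization (dd f g Δ hrd (qX (k := k) (d := d) (r := r)))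
  let π : Spec (CommRingCat.of P) ⟶ Spec (CommRingCat.of k) := Spec.map (CommRingCat.ofHom (algebraMap k P))
  haveI : LocallyOfFiniteType π := (HasRingHomProperty.Spec_iff (P := @LocallyOfFiniteType)).mpr
    (RingHom.finiteType_algebraMap.mpr inferInstance)
  haveI : IrreducibleSpace ↥(Spec (CommRingCat.of P)) := inferInstanceAs (IrreducibleSpace (PrimeSpectrum P))
  have hdimQ : topologicalKrullDim ↥(Spec (CommRingCat.of (Q f g Δ hrd))) = (r * (d - r) : ℕ) := by
    refine (FBase.Dim.topDim_range j.isOpenEmbedding.isEmbedding).trans ?_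
    refine (FBase.Dim.topDim_opens π j.opensRange ⟨_, w, rfl⟩).trans ?_
    refine (PrimeSpectrum.topologicalKrullDim_eq_ringKrullDim P).trans ?_
    simp only [P, MvPolynomial.ringKrullDim_of_isNoetherianRing, ringKrullDim_eq_zero_of_field, zero_add,
      Nat.card_eq_fintype_card, Fintype.card_prod, Fintype.card_fin]
  have hO : topologicalKrullDim (O : Set X.left) = (r * (d - r) : ℕ) :=
    (FBase.Dim.topDim_range hemb.isEmbedding).symm.trans hdimQ
  have hZdim : topologicalKrullDim ↥Z = (VarDim.dimPt k X.left η : WithBot ℕ∞) := by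
    rw [← hη.def, CycLib.topologicalKrullDim_closure, VarDim.height_eq_dimPt k]
    rfl
  apply le_antisymm
  · rw [hZdim, ← hO]
    exact VarDim.le_topologicalKrullDim_opens k O (show η ∈ O from hηO) le_rfl
  · rw [← hO]
    have hOZ : (O : Set X.left) ⊆ Z := by
      rw [(component_chart E H hrd hZ hη.mem hηO).1]; exact subset_closure
    exact (Topology.IsInducing.subtypeVal.codRestrict (hOZ ·.2) |> fun h =>
      Topology.IsInducing.topologicalKrullDim_le h)

theorem exists_two_components {K : Type u} [Field K] [Algebra k K] (x : specOver (CommAlgCat.of k K) ⟶ X)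
    (hx : ¬ W4c1limliniiii.IsExact k d r n f g K (E.e (CommAlgCat.of k K) x).1) (H : Hyp f g s) (hrd : r ≤ d) :
    ∃ Z₁ ∈ irreducibleComponents ↥X.left, ∃ Z₂ ∈ irreducibleComponents ↥X.left,
      Z₁ ≠ Z₂ ∧ x.left (closedPoint K) ∈ Z₁ ∧ x.left (closedPoint K) ∈ Z₂ := by
  obtain rfl : s = 0 := by_contra fun hs => hx (isExact_of_ne_zero H ((map_ne_zero _).mpr hs) _)
  obtain ⟨L₁, _, _, y₁, L₂, _, _, y₂, i, hs1, hs2, hx1, hx2, hne⟩ := exists_two_gen E hrd H x hx
  obtain ⟨Δ₁, -, hΔ₁⟩ := exists_chart_of_exact E H hrd y₁ hx1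
  obtain ⟨Δ₂, -, hΔ₂⟩ := exists_chart_of_exact E H hrd y₂ hx2
  obtain ⟨Z₁, hZ₁, hmem₁⟩ : ∃ Z ∈ irreducibleComponents ↥X.left, y₁.left (closedPoint L₁) ∈ Z :=
    ⟨_, irreducibleComponent_mem_irreducibleComponents _, mem_irreducibleComponent⟩
  obtain ⟨Z₂, hZ₂, hmem₂⟩ : ∃ Z ∈ irreducibleComponents ↥X.left, y₂.left (closedPoint L₂) ∈ Z :=
    ⟨_, irreducibleComponent_mem_irreducibleComponents _, mem_irreducibleComponent⟩
  refine ⟨Z₁, hZ₁, Z₂, hZ₂, fun he => ?_, hs1.mem_closed (isClosed_of_mem_irreducibleComponents _ hZ₁) hmem₁,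
    hs2.mem_closed (isClosed_of_mem_irreducibleComponents _ hZ₂) hmem₂⟩
  obtain ⟨-, η, hη, hη1⟩ := component_chart E H hrd hZ₁ hmem₁ hΔ₁
  obtain ⟨-, η', hη', hη2⟩ := component_chart E H hrd hZ₂ hmem₂ hΔ₂
  obtain rfl : η = η' := hη.eq (he ▸ hη')
  obtain ⟨K', _, _, y, hy⟩ := exists_pt (X := X) η
  refine hne ?_
  rw [(chart_exact E H hrd y₁ hΔ₁).2 (map_zero _) i, (chart_exact E H hrd y₂ hΔ₂).2 (map_zero _) i,
    ← (chart_exact E H hrd y (hy ▸ hη1)).2 (map_zero _) i, ← (chart_exact E H hrd y (hy ▸ hη2)).2 (map_zero _) i]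

theorem component_unique {K : Type u} [Field K] [Algebra k K] (x : specOver (CommAlgCat.of k K) ⟶ X)
    (hx : W4c1limliniiii.IsExact k d r n f g K (E.e (CommAlgCat.of k K) x).1) (H : Hyp f g s) (hrd : r ≤ d)
    {Z₁ Z₂ : Set X.left} (hZ₁ : Z₁ ∈ irreducibleComponents X.left) (hZ₂ : Z₂ ∈ irreducibleComponents X.left)
    (h₁ : x.left (closedPoint K) ∈ Z₁) (h₂ : x.left (closedPoint K) ∈ Z₂) : Z₁ = Z₂ := by
  obtain ⟨Δ, -, hΔ⟩ := exists_chart_of_exact E H hrd x hx
  rw [(component_chart E H hrd hZ₁ h₁ hΔ).1, (component_chart E H hrd hZ₂ h₂ hΔ).1]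

end Groth.Agent.LG86

end
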