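import Groth.Agent.LG86.Point

/-!
# Decomposition of an arbitrary linked chain over a field
-/

set_option autoImplicit false
set_option maxHeartbeats 1000000

universe u

open TensorProduct

noncomputable section

namespace Groth.Agent.LG86

variable {k : Type u} [CommRing k] {s : k} {K : Type u} [Field K] [Algebra k K] {d r n : ℕ}
  {f g : Fin n → ((Fin d → k) →ₗ[k] (Fin d → k))}

theorem path_via_g {A : Type u} [CommRing A] [Algebra k A] {i l : ℕ} (h : i ≤ l) (z : M (k := k) A d) :
    path f g A (l + 1) i z = path f g A l i (ext0 A g l z) := by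
  obtain ⟨t, rfl⟩ : ∃ t, l = i + t := ⟨l - i, by omega⟩
  clear h
  induction t generalizing i with
  | zero =>
    rw [path_pred f g A (by omega)]
    simp [path_self, Module.End.mul_apply]
  | succ t ih =>
    rw [path_pred f g A (show i < i + (t + 1) + 1 by omega), path_pred f g A (show i < i + (t + 1) by omega),
      Module.End.mul_apply, Module.End.mul_apply]
    congr 1
    have := @ih (i + 1)
    rw [show i + 1 + t = i + (t + 1) by omega] at this
    exact this

theorem path_via_f {A : Type u} [CommRing A] [Algebra k A] {i l : ℕ} (h : l < i) (z : M (k := k) A d) :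
    path f g A l i z = path f g A (l + 1) i (ext0 A f l z) := by
  induction i, h using Nat.le_induction with
  | base =>
    rw [path_succ f g A le_rfl]
    simp [path_self, Module.End.mul_apply]
  | succ i hi ih =>
    rw [path_succ f g A (show l ≤ i by omega), path_succ f g A (show l + 1 ≤ i from hi), Module.End.mul_apply,
      Module.End.mul_apply, ih]

/-- The vectors decomposing a linked chain: sources `v`, and paired sources `u`, `v` at adjacent levels. -/
structure Dec (K : Type u) [Field K] [Algebra k K] (d r n : ℕ) where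
  pair : Fin r → Bool
  lev : Fin r → Fin (n + 1)
  u : Fin r → M (k := k) K d
  v : Fin r → M (k := k) K d
  y : Fin r → M (k := k) K d
  z : Fin r → M (k := k) K d

/-- The level of the upper source. -/
def Dec.src (D : Dec (k := k) K d r n) (a : Fin r) : ℕ := if D.pair a then (D.lev a).val + 1 else (D.lev a).val

/-- The decomposing vectors at a level. -/
def Dec.vec (D : Dec (k := k) K d r n) (f g : Fin n → ((Fin d → k) →ₗ[k] (Fin d → k))) (i : ℕ) (a : Fin r) :
    M (k := k) K d :=
  if D.pair a = true ∧ i ≤ (D.lev a).val then path f g K (D.lev a).val i (D.u a)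
  else path f g K (D.src a) i (D.v a)

theorem exists_dec (hrd : r ≤ d) (H : Hyp f g s) (hs : algebraMap k K s = 0)
    (V : Fin (n + 1) → Module.Grassmannian K (M (k := k) K d) (d - r))
    (hV : V ∈ W4c1limliniiii.LGPoints k d r n f g K) :
    ∃ D : Dec (k := k) K d r n,
      (∀ a, D.pair a = true → (D.lev a).val < n ∧
        ext0 K g (D.lev a).val (D.y a) = D.u a ∧ ext0 K f (D.lev a).val (D.z a) = D.v a) ∧
      (∀ i : Fin (n + 1), LinearIndependent K (D.vec f g i.val) ∧
        Submodule.span K (Set.range (D.vec f g i.val)) = (V i).toSubmodule) ∧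
      (¬ W4c1limliniiii.IsExact k d r n f g K V → ∃ a, D.pair a = true) := by
  classical
  haveI : Module.Finite K (M (k := k) K d) := Module.Finite.of_basis (stdB K d)
  haveI : ∀ p : Submodule K (M (k := k) K d), Module.Free K ↥p := fun p => Module.Free.of_divisionRing K ↥p
  haveI : ∀ p : Submodule K (M (k := k) K d), Module.Finite K ↥p := fun p => Module.Finite.of_injective p.subtype p.injective_subtype
  let Vn := lvl V
  have hdim : ∀ i ≤ n, Module.finrank K (Vn i) = r := fun i hi => by
    rw [show Vn i = (V ⟨i, by omega⟩).toSubmodule from dif_pos (by omega)]; exact finrank_grass hrd _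
  have hlf : ∀ i < n, Submodule.map (ext0 K f i) (Vn i) ≤ Vn (i + 1) := fun i hi => by
    rw [show Vn i = _ from lvl_val V (Fin.castSucc ⟨i, hi⟩), show Vn (i + 1) = _ from lvl_val V (Fin.succ ⟨i, hi⟩),
      show ext0 K f i = _ from ext0_eq ⟨i, hi⟩]
    exact (hV ⟨i, hi⟩).1
  have hlg : ∀ i < n, Submodule.map (ext0 K g i) (Vn (i + 1)) ≤ Vn i := fun i hi => by
    rw [show Vn i = _ from lvl_val V (Fin.castSucc ⟨i, hi⟩), show Vn (i + 1) = _ from lvl_val V (Fin.succ ⟨i, hi⟩),
      show ext0 K g i = _ from ext0_eq ⟨i, hi⟩]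
    exact (hV ⟨i, hi⟩).2
  have hFG : ∀ i < n, ∀ z : M (k := k) K d, ext0 K f i (ext0 K g i z) = 0 := fun i hi z => by
    rw [H.fg hi, hs, zero_smul]
  have hGF : ∀ i < n, ∀ z : M (k := k) K d, ext0 K g i (ext0 K f i z) = 0 := fun i hi z => by
    rw [H.gf hi, hs, zero_smul]
  let A : ℕ → Submodule K (M (k := k) K d) := fun i =>
    match i with
    | 0 => ⊥
    | i + 1 => Submodule.map (ext0 K f i) (Vn i)
  let Kg : ℕ → Submodule K (M (k := k) K d) := fun i =>
    match i with
    | 0 => ⊥
    | i + 1 => Vn (i + 1) ⊓ LinearMap.ker (ext0 K g i)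
  let B : ℕ → Submodule K (M (k := k) K d) := fun i =>
    if i < n then Submodule.map (ext0 K g i) (Vn (i + 1)) else ⊥
  let Kf : ℕ → Submodule K (M (k := k) K d) := fun i =>
    if i < n then Vn i ⊓ LinearMap.ker (ext0 K f i) else ⊥
  have hKgV : ∀ i, Kg i ≤ Vn i := by rintro (_ | i); exacts [bot_le, inf_le_left]
  have hKfV : ∀ i, Kf i ≤ Vn i := fun i => by simp only [Kf]; split_ifs; exacts [inf_le_left, bot_le]
  have hAK : ∀ i ≤ n, A i ≤ Kg i := by
    rintro (_ | i) hi
    · exact le_rfl
    · refine le_inf (hlf i (by omega)) ?_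
      rintro _ ⟨z, -, rfl⟩
      exact hGF i (by omega) z
  have hBK : ∀ i, B i ≤ Kf i := fun i => by
    simp only [B, Kf]
    split_ifs with h
    · refine le_inf (hlg i h) ?_
      rintro _ ⟨z, -, rfl⟩
      exact hFG i h z
    · exact le_rfl
  have hdis : ∀ i ≤ n, Disjoint (Kg i) (Kf i) := by
    rintro (_ | i) hi
    · exact disjoint_bot_left
    · rw [Submodule.disjoint_def]
      intro x hxG hxF
      simp only [Kf] at hxF
      split_ifs at hxF with h
      · obtain ⟨u, hu⟩ := H.exists_of_g_eq_zero hs (show i < n by omega) hxG.2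
        rw [← hu] at hxF ⊢
        exact H.ff_zero h hxF.2
      · exact hxF
  choose R hRK hRsup hRdis using fun i : Fin (n + 1) => exists_compl_in _ _ (hAK i.val (Nat.lt_succ_iff.mp i.isLt))
  choose L hLK hLsup hLdis using fun i : Fin (n + 1) => exists_compl_in _ _ (hBK i.val)
  choose W hWV hWsup hWdis using fun i : Fin (n + 1) =>
    exists_compl_in (Kg i.val ⊔ Kf i.val) (Vn i.val) (sup_le (hKgV _) (hKfV _))
  let w : Fin (n + 1) → ℕ := fun i => Module.finrank K (W i)
  let δ : Fin n → ℕ := fun l => Module.finrank K (R l.succ)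
  have hG : ∀ i : Fin (n + 1), Module.finrank K (A i.val) + Module.finrank K (R i) = Module.finrank K (Kg i.val) := by
    intro i
    have h1 := Submodule.finrank_sup_add_finrank_inf_eq (A i.val) (R i)
    rw [(hRdis i).eq_bot, finrank_bot, hRsup i] at h1
    omega
  have hF : ∀ i : Fin (n + 1), Module.finrank K (B i.val) + Module.finrank K (L i) = Module.finrank K (Kf i.val) := by
    intro i
    have h1 := Submodule.finrank_sup_add_finrank_inf_eq (B i.val) (L i)
    rw [(hLdis i).eq_bot, finrank_bot, hLsup i] at h1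
    omega
  have hsum : ∀ i : Fin (n + 1), Module.finrank K (Kg i.val) + Module.finrank K (Kf i.val) + w i = r := by
    intro i
    have h1 := Submodule.finrank_sup_add_finrank_inf_eq (Kg i.val) (Kf i.val)
    rw [(hdis i.val (Nat.lt_succ_iff.mp i.isLt)).eq_bot, finrank_bot] at h1
    have h2 := Submodule.finrank_sup_add_finrank_inf_eq (Kg i.val ⊔ Kf i.val) (W i)
    rw [(hWdis i).eq_bot, finrank_bot, hWsup i, hdim i.val (Nat.lt_succ_iff.mp i.isLt)] at h2
    have h3 : w i = Module.finrank K (W i) := rfl
    omega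
  have hrn : ∀ (P : Submodule K (M (k := k) K d)) (T : Module.End K (M (k := k) K d)),
      Module.finrank K (Submodule.map T P) + Module.finrank K ↥(P ⊓ LinearMap.ker T) = Module.finrank K P := by
    intro P T
    let φ : ↥P →ₗ[K] M (k := k) K d := T.domRestrict P
    have h1 := LinearMap.finrank_range_add_finrank_ker (V := ↥P) (V₂ := M (k := k) K d) φ
    rw [show LinearMap.range φ = Submodule.map T P from LinearMap.range_domRestrict _ _] at h1
    have hmap : Submodule.map P.subtype (LinearMap.ker φ) = P ⊓ LinearMap.ker T := by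
      ext x
      constructor
      · rintro ⟨p, hp, rfl⟩; exact ⟨p.2, hp⟩
      · rintro ⟨hx, hx'⟩; exact ⟨⟨x, hx⟩, hx', rfl⟩
    rw [← hmap, ← (Submodule.equivMapOfInjective _ P.injective_subtype (LinearMap.ker φ)).finrank_eq]
    exact h1
  have hstepF : ∀ l : Fin n, Module.finrank K (A (l.val + 1)) + Module.finrank K (Kf l.val) = r := by
    intro l
    rw [show Kf l.val = Vn l.val ⊓ LinearMap.ker (ext0 K f l.val) from if_pos l.isLt]
    simp only [A]
    rw [hrn, hdim l.val l.isLt.le]
  have hstepG : ∀ l : Fin n, Module.finrank K (B l.val) + Module.finrank K (Kg (l.val + 1)) = r := by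
    intro l
    rw [show B l.val = Submodule.map (ext0 K g l.val) (Vn (l.val + 1)) from if_pos l.isLt]
    simp only [Kg]
    rw [hrn, hdim (l.val + 1) l.isLt]
  have hδ : ∀ l : Fin n, Module.finrank K (L l.castSucc) = δ l := by
    intro l
    have h1 := hG l.succ
    have h2 := hF l.castSucc
    rw [Fin.val_succ] at h1
    rw [Fin.val_castSucc] at h2
    have h3 := hstepF l
    have h4 := hstepG l
    have h5 : δ l = Module.finrank K (R l.succ) := rfl
    omega
  have hcum : ∀ i (hi : i ≤ n), Module.finrank K (Kg i) =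
      ∑ j : Fin i, (w ⟨j.val, by omega⟩ + δ ⟨j.val, by omega⟩) := by
    intro i
    induction i with
    | zero => intro _; simp [Kg]
    | succ i ih =>
      intro hi
      have h1 := hstepF ⟨i, by omega⟩
      have h2 := hsum ⟨i, by omega⟩
      have h3 := hG (⟨i, by omega⟩ : Fin n).succ
      have h4 : δ ⟨i, by omega⟩ = Module.finrank K (R (⟨i, by omega⟩ : Fin n).succ) := rfl
      rw [Fin.val_succ] at h3
      rw [Fin.sum_univ_castSucc]
      simp only [Fin.val_castSucc, Fin.val_last]
      rw [← ih (by omega)]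
      simp only [] at h1 h2 h3
      omega
  have hr : (∑ j : Fin (n + 1), w j) + ∑ l : Fin n, δ l = r := by
    have h1 := hsum (Fin.last n)
    have h2 : Module.finrank K (Kf n) = 0 := by simp [Kf]
    have h3 : ∑ l : Fin n, (w l.castSucc + δ l) = Module.finrank K (Kg n) := (hcum n le_rfl).symm
    rw [Finset.sum_add_distrib] at h3
    rw [Fin.sum_univ_castSucc]
    simp only [Fin.val_last] at h1
    omega
  let ι := (Σ i : Fin (n + 1), Fin (w i)) ⊕ (Σ l : Fin n, Fin (δ l))
  let eι : Fin r ≃ ι := (Fintype.equivFinOfCardEq (by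
    rw [Fintype.card_sum, Fintype.card_sigma, Fintype.card_sigma]; simpa using hr)).symm
  let bW := fun i => Module.finBasis K ↥(W i)
  let bR := fun l : Fin n => Module.finBasis K ↥(R l.succ)
  let bL := fun l : Fin n => Module.finBasisOfFinrankEq K ↥(L l.castSucc) (hδ l)
  have hy : ∀ (l : Fin n) (c : Fin (δ l)), ∃ y, ext0 K g l.val y = ((bL l c : ↥(L l.castSucc)) : M (k := k) K d) := by
    intro l c
    have h := hLK l.castSucc (bL l c).2
    simp only [Kf, Fin.val_castSucc, if_pos l.isLt] at h
    exact H.exists_of_f_eq_zero hs l.isLt h.2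
  have hz : ∀ (l : Fin n) (c : Fin (δ l)), ∃ z, ext0 K f l.val z = ((bR l c : ↥(R l.succ)) : M (k := k) K d) := by
    intro l c
    have h := hRK l.succ (bR l c).2
    simp only [Kg, Fin.val_succ] at h
    exact H.exists_of_g_eq_zero hs l.isLt h.2
  choose yy hyy using hy
  choose zz hzz using hz
  let D : Dec (k := k) K d r n :=
    { pair := fun a => Sum.elim (fun _ => false) (fun _ => true) (eι a)
      lev := fun a => Sum.elim (fun p => p.1) (fun p => p.1.castSucc) (eι a)
      u := fun a => Sum.elim (fun _ => 0) (fun p => (bL p.1 p.2).1) (eι a)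
      v := fun a => Sum.elim (fun p => (bW p.1 p.2).1) (fun p => (bR p.1 p.2).1) (eι a)
      y := fun a => Sum.elim (fun _ => 0) (fun p => yy p.1 p.2) (eι a)
      z := fun a => Sum.elim (fun _ => 0) (fun p => zz p.1 p.2) (eι a) }
  have hpair : ∀ a, D.pair a = true → (D.lev a).val < n ∧
      ext0 K g (D.lev a).val (D.y a) = D.u a ∧ ext0 K f (D.lev a).val (D.z a) = D.v a := by
    intro a
    simp only [D]
    rcases eι a with p | p
    · simp
    · intro _
      exact ⟨p.1.isLt, hyy p.1 p.2, hzz p.1 p.2⟩
  -- memberships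
  have hvV : ∀ a, D.v a ∈ Vn (D.src a) := by
    intro a
    simp only [D, Dec.src]
    rcases eι a with p | p
    · simpa using hWV p.1 (bW p.1 p.2).2
    · simpa using hKgV _ (hRK p.1.succ (bR p.1 p.2).2)
  have hvecV : ∀ i ≤ n, ∀ a, D.vec f g i a ∈ Vn i := by
    intro i hi a
    simp only [Dec.vec]
    split_ifs with h
    · refine path_mem (f := f) (g := g) Vn hlf hlg (Nat.lt_succ_iff.mp (D.lev a).isLt) ?_ i hi
      simp only [D] at h ⊢
      rcases hh : eι a with p | p
      · simp [hh] at h
      · simpa using hKfV _ (hLK p.1.castSucc (bL p.1 p.2).2)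
    · refine path_mem (f := f) (g := g) Vn hlf hlg ?_ (hvV a) i hi
      simp only [Dec.src]
      split_ifs with hp
      · exact (hpair a hp).1
      · exact Nat.lt_succ_iff.mp (D.lev a).isLt
  let S : ℕ → Submodule K (M (k := k) K d) := fun i => Submodule.span K (Set.range (D.vec f g i))
  have hSf : ∀ i < n, Submodule.map (ext0 K f i) (S i) ≤ S (i + 1) := by
    intro i hi
    rw [Submodule.map_le_iff_le_comap, Submodule.span_le]
    rintro _ ⟨a, rfl⟩
    simp only [SetLike.mem_coe, Submodule.mem_comap, Dec.vec]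
    split_ifs with h
    · rcases Nat.lt_or_ge i (D.lev a).val with h' | h'
      · rw [path_pred f g K h', Module.End.mul_apply, hFG i hi]; exact zero_mem _
      · obtain rfl : i = (D.lev a).val := le_antisymm h.2 h'
        rw [path_self, Module.End.one_apply, ← (hpair a h.1).2.1, hFG _ hi]; exact zero_mem _
    · rcases Nat.lt_or_ge i (D.src a) with h' | h'
      · rw [path_pred f g K h', Module.End.mul_apply, hFG i hi]; exact zero_mem _
      · refine Submodule.subset_span ⟨a, ?_⟩
        simp only [Dec.vec]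
        rw [if_neg (fun h'' => h ⟨h''.1, by omega⟩), path_succ f g K h', Module.End.mul_apply]
  have hSg : ∀ i < n, Submodule.map (ext0 K g i) (S (i + 1)) ≤ S i := by
    intro i hi
    rw [Submodule.map_le_iff_le_comap, Submodule.span_le]
    rintro _ ⟨a, rfl⟩
    simp only [SetLike.mem_coe, Submodule.mem_comap, Dec.vec]
    split_ifs with h
    · refine Submodule.subset_span ⟨a, ?_⟩
      simp only [Dec.vec]
      rw [if_pos ⟨h.1, by omega⟩, path_pred f g K (show i < (D.lev a).val by omega), Module.End.mul_apply]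
    · rcases Nat.lt_or_ge i (D.src a) with h' | h'
      · by_cases hh : D.pair a = true ∧ i ≤ (D.lev a).val
        · have hl : i = (D.lev a).val := by
            have : ¬ (i + 1 ≤ (D.lev a).val) := fun hle => h ⟨hh.1, hle⟩
            omega
          subst hl
          simp only [Dec.src, hh.1, if_pos]
          rw [path_self, Module.End.one_apply, ← (hpair a hh.1).2.2, hGF _ hi]
          exact zero_mem _
        · refine Submodule.subset_span ⟨a, ?_⟩
          simp only [Dec.vec]
          rw [if_neg hh, path_pred f g K h', Module.End.mul_apply]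
      · rw [path_succ f g K h', Module.End.mul_apply, hGF i hi]; exact zero_mem _
  have hle_of_basis : ∀ (P : Submodule K (M (k := k) K d)) (i : ℕ) {m : ℕ} (b : Module.Basis (Fin m) K ↥P),
      (∀ c, (b c).1 ∈ S i) → P ≤ S i := by
    intro P i m b hb x hx
    have := b.sum_repr ⟨x, hx⟩
    rw [show x = (⟨x, hx⟩ : ↥P).1 from rfl, ← this, Submodule.coe_sum]
    exact Submodule.sum_mem _ fun c _ => by
      rw [Submodule.coe_smul]; exact Submodule.smul_mem _ _ (hb c)
  have hWS : ∀ i : Fin (n + 1), W i ≤ S i.val := fun i => hle_of_basis _ _ (bW i) fun c => by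
    refine Submodule.subset_span ⟨eι.symm (Sum.inl ⟨i, c⟩), ?_⟩
    simp [Dec.vec, Dec.src, D, path_self]
  have hLS : ∀ i : Fin (n + 1), L i ≤ S i.val := fun i => by
    rcases Fin.eq_castSucc_or_eq_last i with ⟨l, rfl⟩ | rfl
    · refine hle_of_basis _ _ (bL l) fun c => Submodule.subset_span ⟨eι.symm (Sum.inr ⟨l, c⟩), ?_⟩
      simp [Dec.vec, D, path_self]
    · refine (hLK _).trans ?_
      simp [Kf]
  have hRS : ∀ i : Fin (n + 1), R i ≤ S i.val := fun i => by
    rcases Fin.eq_zero_or_eq_succ i with rfl | ⟨l, rfl⟩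
    · exact (hRK _).trans bot_le
    · refine hle_of_basis _ _ (bR l) fun c => Submodule.subset_span ⟨eι.symm (Sum.inr ⟨l, c⟩), ?_⟩
      simp [Dec.vec, Dec.src, D, path_self]
  have hVS_of : ∀ i : Fin (n + 1), A i.val ≤ S i.val → B i.val ≤ S i.val → Vn i.val ≤ S i.val := fun i h1 h2 => by
    rw [← hWsup i, ← hRsup i, ← hLsup i]
    exact sup_le (sup_le (sup_le h1 (hRS i)) (sup_le h2 (hLS i))) (hWS i)
  have hA : ∀ i ≤ n, A i ≤ S i := by
    intro i
    induction i with
    | zero => intro _; exact bot_le
    | succ i ih =>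
      intro hi
      change Submodule.map (ext0 K f i) (Vn i) ≤ _
      rw [← hWsup ⟨i, by omega⟩, ← hRsup ⟨i, by omega⟩, Submodule.map_sup, Submodule.map_sup, Submodule.map_sup]
      refine sup_le (sup_le (sup_le ?_ ?_) ?_) ?_
      · exact (Submodule.map_mono (ih (by omega))).trans (hSf i (by omega))
      · exact (Submodule.map_mono (hRS ⟨i, by omega⟩)).trans (hSf i (by omega))
      · simp only [Kf, if_pos (show i < n by omega)]
        rintro _ ⟨x, hx, rfl⟩
        rw [show ext0 K f i x = 0 from hx.2]; exact zero_mem _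
      · exact (Submodule.map_mono (hWS ⟨i, by omega⟩)).trans (hSf i (by omega))
  have hB : ∀ t i, i + t = n → B i ≤ S i := by
    intro t
    induction t with
    | zero => intro i hi; simp only [B, if_neg (show ¬ i < n by omega)]; exact bot_le
    | succ t ih =>
      intro i hi
      simp only [B, if_pos (show i < n by omega)]
      rw [← hWsup ⟨i + 1, by omega⟩, ← hLsup ⟨i + 1, by omega⟩, Submodule.map_sup, Submodule.map_sup, Submodule.map_sup]
      refine sup_le (sup_le ?_ (sup_le ?_ ?_)) ?_
      · rintro _ ⟨x, hx, rfl⟩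
        rw [show ext0 K g i x = 0 from hx.2]; exact zero_mem _
      · exact (Submodule.map_mono (ih (i + 1) (by omega))).trans (hSg i (by omega))
      · exact (Submodule.map_mono (hLS ⟨i + 1, by omega⟩)).trans (hSg i (by omega))
      · exact (Submodule.map_mono (hWS ⟨i + 1, by omega⟩)).trans (hSg i (by omega))
  refine ⟨D, hpair, fun i => ?_, fun hnex => ?_⟩
  · have hle := hVS_of i (hA i.val (Nat.lt_succ_iff.mp i.isLt)) (hB (n - i.val) i.val (by have := i.isLt; omega))
    have heq : S i.val = (V i).toSubmodule := by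
      rw [← lvl_val V i]
      refine le_antisymm (Submodule.span_le.mpr ?_) hle
      rintro _ ⟨a, rfl⟩
      exact hvecV i.val (Nat.lt_succ_iff.mp i.isLt) a
    refine ⟨?_, heq⟩
    rw [linearIndependent_iff_card_le_finrank_span, Fintype.card_fin, Set.finrank]
    have := Submodule.finrank_mono hle
    rw [hdim i.val (Nat.lt_succ_iff.mp i.isLt)] at this
    exact this
  · obtain ⟨l, hl⟩ : ∃ l : Fin n, 0 < δ l := by
      by_contra hcon
      push Not at hcon
      apply hnex
      intro l
      have h0 : Module.finrank K (R l.succ) = 0 := Nat.le_zero.mp (hcon l)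
      have hR0 : R l.succ = ⊥ := Submodule.finrank_eq_zero.mp h0
      have hL0 : L l.castSucc = ⊥ := Submodule.finrank_eq_zero.mp ((hδ l).trans h0)
      have h1 := hRsup l.succ
      have h2 := hLsup l.castSucc
      rw [hR0, sup_bot_eq] at h1
      rw [hL0, sup_bot_eq] at h2
      simp only [A, Kg, Fin.val_succ] at h1
      simp only [B, Kf, Fin.val_castSucc, if_pos l.isLt] at h2
      rw [ext0_eq (h := f) l, ext0_eq (h := g) l, show Vn l.val = _ from lvl_val V l.castSucc, show Vn (l.val + 1) = _ from lvl_val V l.succ] at h1 h2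
      exact ⟨fun x hx => h1.ge ⟨hx.2, hx.1⟩, fun x hx => h2.ge ⟨hx.2, hx.1⟩⟩
    exact ⟨eι.symm (Sum.inr ⟨l, ⟨0, hl⟩⟩), by simp [D]⟩

end Groth.Agent.LG86

end
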