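import Groth.Agent.LG86.Rep
import Groth.Agent.LG86.Decomp

/-!
# Exact generisations of the points of a linked Grassmannian
-/

set_option autoImplicit false
set_option maxHeartbeats 1000000

universe u

open TensorProduct CategoryTheory AlgebraicGeometry IsLocalRing

noncomputable section

namespace Groth.Agent.LG86

variable {k : Type u} [CommRing k] {s : k} {d r n : ℕ} {f g : Fin n → ((Fin d → k) →ₗ[k] (Fin d → k))}
  {X : Over (Spec (CommRingCat.of k))} (E : Rep (r := r) f g X)

theorem ch_leftInverse {A B : Type u} [CommRing A] [Algebra k A] [CommRing B] [Algebra k B] (φ : A →ₐ[k] B)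
    (ψ : B →ₐ[k] A) (h : ∀ b, φ (ψ b) = b) (z : M (k := k) B d) : ch φ (ch ψ z) = z := by
  rw [← ch_comp]
  induction z using TensorProduct.induction_on with
  | zero => simp
  | tmul b m => rw [ch_tmul, AlgHom.comp_apply, h]
  | add x y hx hy => rw [map_add, hx, hy]

/-- A family of chains over a valuation ring, exact at the generic point, gives an exact generisation. -/
theorem exists_gen (hrd : r ≤ d) {K A : Type u} [Field K] [Algebra k K] [CommRing A] [IsDomain A] [IsLocalRing A]
    [Algebra k A] (ε : A →ₐ[k] K) (hε : ∀ a, ε a ≠ 0 → IsUnit a) (H : Hyp f g s) (hs : algebraMap k A s = 0)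
    (x : specOver (CommAlgCat.of k K) ⟶ X) (J : Fin r → Fin (n + 1)) (w : Fin r → M (k := k) A d)
    (Z : Fin (n + 1) → Fin r → M (k := k) A d)
    (hZ : ∀ i a, ∃ e : A, e ≠ 0 ∧ e • Z i a = path f g A (J a).val i.val (w a))
    (hind : ∀ i, LinearIndependent K fun a => ch ε (Z i a))
    (hmem : ∀ i a, ch ε (Z i a) ∈ ((E.e (CommAlgCat.of k K) x).1 i).toSubmodule) :
    ∃ (L : Type u) (_ : Field L) (_ : Algebra k L) (y : specOver (CommAlgCat.of k L) ⟶ X),
      y.left (closedPoint L) ⤳ x.left (closedPoint K) ∧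
      W4c1limliniiii.IsExact k d r n f g L (E.e (CommAlgCat.of k L) y).1 ∧
      ∀ i : Fin n, rk f (E.e (CommAlgCat.of k L) y).1 i.val = Fintype.card {a : Fin r // (J a).val ≤ i.val} := by
  choose κ hκ using fun i => exists_compl_std hrd _ (hind i)
  have hu : ∀ i, IsUnit (dt hrd (Z i) (κ i)) := fun i => hε _ (by rw [map_dt]; exact hκ i)
  let L : Type u := FractionRing A
  let ι : A →ₐ[k] L := IsScalarTower.toAlgHom k A L
  have hι : Function.Injective ι := IsFractionRing.injective A L
  choose e he hZe using hZ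
  have hZL : ∀ i a, ch ι (Z i a) = (ι (e i a))⁻¹ • path f g L (J a).val i.val (ch ι (w a)) := fun i a => by
    rw [← ch_path, ← hZe, ch_smul, smul_smul, inv_mul_cancel₀ ((map_ne_zero_iff _ hι).mpr (he i a)), one_smul]
  have hspanL : ∀ i, Submodule.span L (Set.range fun a => ch ι (Z i a)) =
      Submodule.span L (Set.range fun a => path f g L (J a).val i.val (ch ι (w a))) := by
    intro i
    apply le_antisymm <;> rw [Submodule.span_le] <;> rintro _ ⟨a, rfl⟩
    · simp only [hZL]; exact Submodule.smul_mem _ _ (Submodule.subset_span ⟨a, rfl⟩)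
    · simp only
      rw [← ch_path, ← hZe, ch_smul]; exact Submodule.smul_mem _ _ (Submodule.subset_span ⟨a, rfl⟩)
  let W : Fin (n + 1) → Module.Grassmannian A (M (k := k) A d) (d - r) := fun i => grass (hu i)
  have hW : W ∈ W4c1limliniiii.LGPoints k d r n f g A := by
    intro i
    constructor <;> rw [grass_toSubmodule, grass_toSubmodule, Submodule.map_le_iff_le_comap, Submodule.span_le] <;>
      rintro _ ⟨a, rfl⟩ <;> refine mem_span_of_ch ι hι (hu _) _ ?_ <;> rw [ch_baseChange, hspanL]
    · have h := Submodule.subset_span (R := L) (s := Set.range fun a => ch ι (Z i.castSucc a)) ⟨a, rfl⟩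
      rw [hspanL] at h
      exact (map_span_le f g L s H.hI (fun a => (J a).val) (fun a => ch ι (w a)) i).1
        (Submodule.mem_map_of_mem h)
    · have h := Submodule.subset_span (R := L) (s := Set.range fun a => ch ι (Z i.succ a)) ⟨a, rfl⟩
      rw [hspanL] at h
      exact (map_span_le f g L s H.hI (fun a => (J a).val) (fun a => ch ι (w a)) i).2
        (Submodule.mem_map_of_mem h)
  have hmw : ∀ i a, Z i a ∈ (W i).toSubmodule := fun i a => Submodule.subset_span ⟨a, rfl⟩
  let Ak : CommAlgCat.{u} k := CommAlgCat.of k A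
  let γ : specOver Ak ⟶ X := (E.e Ak).symm ⟨W, hW⟩
  have hγ : (E.e Ak γ).1 = W := by rw [Equiv.apply_symm_apply]
  have hx : x.left = Spec.map (CommRingCat.ofHom ε.toRingHom) ≫ γ.left := by
    refine E.eq_comp (A := Ak) (B := CommAlgCat.of k K) (CommAlgCat.ofHom ε) γ x fun i => ?_
    rw [hγ]
    have hu' : IsUnit (dt hrd (fun a => ch ε (Z i a)) (κ i)) := (hκ i).isUnit
    exact (grass_unique hu' _ fun a => hmem i a).trans
      (grass_unique hu' _ fun a => ch_mem ε (hmw i a)).symm
  let yl : Spec (CommRingCat.of L) ⟶ X.left := Spec.map (CommRingCat.ofHom ι.toRingHom) ≫ γ.left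
  let y : specOver (CommAlgCat.of k L) ⟶ X := Over.homMk yl (by
    change (Spec.map _ ≫ _) ≫ X.hom = _
    rw [Category.assoc, Over.w γ]
    change Spec.map _ ≫ Spec.map _ = Spec.map _
    rw [← Spec.map_comp]
    rfl)
  refine ⟨L, inferInstance, inferInstance, y, ?_, ?_⟩
  · let zε : PrimeSpectrum A := PrimeSpectrum.comap ε.toRingHom (closedPoint K)
    have h : closedPoint A = zε := by
      apply PrimeSpectrum.ext
      change maximalIdeal A = Ideal.comap ε.toRingHom (maximalIdeal K)
      rw [IsLocalRing.maximalIdeal_eq_bot]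
      ext a
      change a ∈ nonunits A ↔ ε a = 0
      exact ⟨fun ha => by_contra fun h => ha (hε a h), fun ha hu => not_isUnit_zero (ha ▸ hu.map ε)⟩
    have h2 : (PrimeSpectrum.comap ι.toRingHom (closedPoint L)) ⤳ zε := h ▸ specializes_closedPoint _
    rw [hx]
    exact h2.map γ.left.continuous
  · have hyV : ∀ i, ((E.e (CommAlgCat.of k L) y).1 i).toSubmodule =
        Submodule.span L (Set.range fun a => path f g L (J a).val i.val (ch ι (w a))) := by
      intro i
      rw [E.he Ak (CommAlgCat.of k L) (CommAlgCat.ofHom ι) γ y rfl, hγ, ← hspanL]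
      have h' : IsUnit (dt hrd (fun a => ch ι (Z i a)) (κ i)) := by rw [← map_dt]; exact (hu i).map ι
      exact congrArg Module.Grassmannian.toSubmodule
        (grass_unique h' _ fun a => ch_mem ι (hmw i a))
    have hindL : ∀ i : Fin (n + 1), LinearIndependent L fun a => path f g L (J a).val i.val (ch ι (w a)) := by
      intro i
      have h' : IsUnit (dt hrd (fun a => ch ι (Z i a)) (κ i)) := by rw [← map_dt]; exact (hu i).map ι
      rw [linearIndependent_iff_card_le_finrank_span, Set.finrank, ← hspanL]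
      have h2 := (bas h').linearIndependent.comp Sum.inl Sum.inl_injective
      rw [show ⇑(bas h') ∘ Sum.inl = fun a => ch ι (Z i a) from funext fun a => by simp [bas_apply, fam]] at h2
      rw [finrank_span_eq_card h2]
    exact ⟨isExact_of_span H hindL hyV, rk_of_span H (by rw [← ι.commutes, hs, map_zero]) hindL hyV⟩

/-- A non-exact point has two exact generisations with different invariants at some level. -/
theorem exists_two_gen (hrd : r ≤ d) (H : Hyp f g s) {K : Type u} [Field K] [Algebra k K]
    (x : specOver (CommAlgCat.of k K) ⟶ X)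
    (hx : ¬ W4c1limliniiii.IsExact k d r n f g K (E.e (CommAlgCat.of k K) x).1) :
    ∃ (L₁ : Type u) (_ : Field L₁) (_ : Algebra k L₁) (y₁ : specOver (CommAlgCat.of k L₁) ⟶ X)
      (L₂ : Type u) (_ : Field L₂) (_ : Algebra k L₂) (y₂ : specOver (CommAlgCat.of k L₂) ⟶ X) (i : Fin n),
      y₁.left (closedPoint L₁) ⤳ x.left (closedPoint K) ∧
      y₂.left (closedPoint L₂) ⤳ x.left (closedPoint K) ∧
      W4c1limliniiii.IsExact k d r n f g L₁ (E.e (CommAlgCat.of k L₁) y₁).1 ∧
      W4c1limliniiii.IsExact k d r n f g L₂ (E.e (CommAlgCat.of k L₂) y₂).1 ∧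
      rk f (E.e (CommAlgCat.of k L₁) y₁).1 i.val ≠ rk f (E.e (CommAlgCat.of k L₂) y₂).1 i.val := by
  classical
  have hsK : algebraMap k K s = 0 := by_contra fun hs => hx (isExact_of_ne_zero H hs _)
  let V : Fin (n + 1) → Module.Grassmannian K (M (k := k) K d) (d - r) := (E.e (CommAlgCat.of k K) x).1
  obtain ⟨D, hpair, hvec, hnex⟩ := exists_dec (K := K) hrd H hsK V (E.e (CommAlgCat.of k K) x).2
  obtain ⟨a0, ha0⟩ := hnex hx
  let A : Type u := PowerSeries K
  let ε : A →ₐ[k] K :=
    { (PowerSeries.constantCoeff : A →+* K) with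
      commutes' := fun c => by
        change PowerSeries.constantCoeff (algebraMap k A c) = _
        simp [A, PowerSeries.algebraMap_apply] }
  let C : K →ₐ[k] A := IsScalarTower.toAlgHom k K A
  have hεC : ∀ c, ε (C c) = c := fun c => by
    change PowerSeries.constantCoeff (algebraMap K A c) = c
    simp [A, PowerSeries.algebraMap_apply]
  have hεu : ∀ a, ε a ≠ 0 → IsUnit a := fun a ha =>
    PowerSeries.isUnit_iff_constantCoeff.mpr (IsUnit.mk0 _ ha)
  have hsA : algebraMap k A s = 0 := by rw [← C.commutes, hsK, map_zero]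
  let t : A := PowerSeries.X
  have ht : ε t = 0 := PowerSeries.constantCoeff_X
  have ht0 : t ≠ 0 := PowerSeries.X_ne_zero
  have hsrc : ∀ a, D.src a < n + 1 := fun a => by
    simp only [Dec.src]
    split_ifs with hp
    · have := (hpair a hp).1; omega
    · exact (D.lev a).isLt
  let uA := fun a => ch C (D.u a)
  let vA := fun a => ch C (D.v a)
  let yA := fun a => ch C (D.y a)
  let zA := fun a => ch C (D.z a)
  have hgy : ∀ a, D.pair a = true → ext0 A g (D.lev a).val (yA a) = uA a := fun a hp => by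
    simp only [yA, uA]
    rw [← ch_ext0, (hpair a hp).2.1]
  have hfz : ∀ a, D.pair a = true → ext0 A f (D.lev a).val (zA a) = vA a := fun a hp => by
    simp only [zA, vA]
    rw [← ch_ext0, (hpair a hp).2.2]
  -- forward sources
  let JA : Fin r → Fin (n + 1) := fun a => ⟨D.src a, hsrc a⟩
  let wA : Fin r → M (k := k) A d := fun a => if D.pair a = true then vA a + t • yA a else vA a
  let ZA : Fin (n + 1) → Fin r → M (k := k) A d := fun i a =>
    if D.pair a = true ∧ i.val ≤ (D.lev a).val then path f g A (D.lev a).val i.val (uA a)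
    else path f g A (D.src a) i.val (wA a)
  have hch0 : ∀ i a, ch ε (ZA i a) = D.vec f g i.val a := by
    intro i a
    simp only [ZA, wA, Dec.vec]
    split_ifs with h hp
    · rw [ch_path, ch_leftInverse ε C hεC]
    · rw [ch_path, map_add, ch_smul, ht, zero_smul, add_zero, ch_leftInverse ε C hεC]
    · rw [ch_path, ch_leftInverse ε C hεC]
  have hZA : ∀ i a, ∃ e : A, e ≠ 0 ∧ e • ZA i a = path f g A (JA a).val i.val (wA a) := by
    intro i a
    simp only [ZA, JA]
    split_ifs with h
    · refine ⟨t, ht0, ?_⟩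
      simp only [Dec.src, wA, h.1, if_pos]
      have hv0 : ext0 A g (D.lev a).val (vA a) = 0 := by
        rw [← hfz a h.1, H.gf (hpair a h.1).1, hsA, zero_smul]
      rw [path_via_g h.2, map_add, map_smul, hgy a h.1, hv0, zero_add, map_smul]
    · exact ⟨1, one_ne_zero, one_smul _ _⟩
  -- backward sources
  let JB : Fin r → Fin (n + 1) := D.lev
  let wB : Fin r → M (k := k) A d := fun a => if D.pair a = true then uA a + t • zA a else vA a
  let ZB : Fin (n + 1) → Fin r → M (k := k) A d := fun i a =>
    if D.pair a = true ∧ (D.lev a).val < i.val then path f g A ((D.lev a).val + 1) i.val (vA a)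
    else path f g A (D.lev a).val i.val (wB a)
  have hch1 : ∀ i a, ch ε (ZB i a) = D.vec f g i.val a := by
    intro i a
    simp only [ZB, wB, Dec.vec, Dec.src]
    by_cases hp : D.pair a = true
    · by_cases hi : (D.lev a).val < i.val
      · rw [if_pos ⟨hp, hi⟩, if_neg (fun h => by omega), if_pos hp, ch_path, ch_leftInverse ε C hεC]
      · rw [if_neg (fun h => hi h.2), if_pos hp, if_pos ⟨hp, not_lt.mp hi⟩, ch_path, map_add, ch_smul, ht, zero_smul,
          add_zero, ch_leftInverse ε C hεC]
    · rw [if_neg (fun h => hp h.1), if_neg hp, if_neg (fun h => hp h.1), if_neg hp, ch_path, ch_leftInverse ε C hεC]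
  have hZB : ∀ i a, ∃ e : A, e ≠ 0 ∧ e • ZB i a = path f g A (JB a).val i.val (wB a) := by
    intro i a
    simp only [ZB, JB]
    split_ifs with h
    · refine ⟨t, ht0, ?_⟩
      simp only [wB, h.1, if_pos]
      have hu0 : ext0 A f (D.lev a).val (uA a) = 0 := by
        rw [← hgy a h.1, H.fg (hpair a h.1).1, hsA, zero_smul]
      rw [path_via_f h.2 (uA a + t • zA a), map_add, map_smul, hfz a h.1, hu0, zero_add, map_smul]
    · exact ⟨1, one_ne_zero, one_smul _ _⟩
  obtain ⟨L₁, i1, i1', y₁, hs1, hx1, hr1⟩ := exists_gen E hrd ε hεu H hsA x JA wA ZA hZA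
    (fun i => by simp only [hch0]; exact (hvec i).1)
    (fun i a => by rw [hch0, ← (hvec i).2]; exact Submodule.subset_span ⟨a, rfl⟩)
  obtain ⟨L₂, i2, i2', y₂, hs2, hx2, hr2⟩ := exists_gen E hrd ε hεu H hsA x JB wB ZB hZB
    (fun i => by simp only [hch1]; exact (hvec i).1)
    (fun i a => by rw [hch1, ← (hvec i).2]; exact Submodule.subset_span ⟨a, rfl⟩)
  let i0 : Fin n := ⟨(D.lev a0).val, (hpair a0 ha0).1⟩
  refine ⟨L₁, i1, i1', y₁, L₂, i2, i2', y₂, i0, hs1, hs2, hx1, hx2, ?_⟩
  rw [hr1, hr2]
  simp only [Fintype.card_subtype]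
  refine ne_of_lt (Finset.card_lt_card ?_)
  refine Finset.ssubset_iff_of_subset ?_ |>.mpr ⟨a0, ?_, ?_⟩
  · intro a ha
    have ha' := (Finset.mem_filter.mp ha).2
    refine Finset.mem_filter.mpr ⟨Finset.mem_univ _, ?_⟩
    by_cases hp : D.pair a = true <;> simp [JA, JB, Dec.src, hp] at ha' ⊢ <;> omega
  · simp [JB, i0]
  · intro ha
    have ha' := (Finset.mem_filter.mp ha).2
    simp [JA, i0, Dec.src, ha0] at ha'

end Groth.Agent.LG86

end
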