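import Mathlib
import Groth.Prelude.Def_W4c1limliniiiiLG

/-!
# Linked chains: propagation of vectors, spans over local rings, and base change
-/

set_option autoImplicit false

universe u

open TensorProduct

noncomputable section

namespace Groth.Agent.LG86

variable {k : Type u} [CommRing k] {d r n : ℕ}

/-- `k^d` base changed to `A`. -/
abbrev M (A : Type u) [CommRing A] [Algebra k A] (d : ℕ) := A ⊗[k] (Fin d → k)

/-- The standard basis of `A ⊗ k^d`. -/
def stdB (A : Type u) [CommRing A] [Algebra k A] (d : ℕ) : Module.Basis (Fin d) A (M (k := k) A d) :=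
  Algebra.TensorProduct.basis A (Pi.basisFun k (Fin d))

section Change

variable {A B : Type u} [CommRing A] [Algebra k A] [CommRing B] [Algebra k B] (φ : A →ₐ[k] B)

/-- The map `A ⊗ k^d → B ⊗ k^d`. -/
def ch : M (k := k) A d →ₗ[k] M (k := k) B d := φ.toLinearMap.rTensor _

theorem ch_tmul (a : A) (m : Fin d → k) : ch φ (a ⊗ₜ[k] m) = φ a ⊗ₜ[k] m := rfl

theorem ch_smul (a : A) (z : M (k := k) A d) : ch φ (a • z) = φ a • ch φ z := by
  induction z using TensorProduct.induction_on with
  | zero => simp
  | tmul x m => simp [ch_tmul, smul_tmul']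
  | add x y hx hy => simp [hx, hy]

theorem ch_baseChange (f : (Fin d → k) →ₗ[k] (Fin d → k)) (z : M (k := k) A d) :
    ch φ (f.baseChange A z) = f.baseChange B (ch φ z) := by
  induction z using TensorProduct.induction_on with
  | zero => simp
  | tmul x m => simp [ch_tmul]
  | add x y hx hy => simp [hx, hy]

theorem ch_stdB (c : Fin d) : ch φ (stdB A d c) = stdB B d c := by
  simp [stdB, ch_tmul]

theorem ch_comp {C : Type u} [CommRing C] [Algebra k C] (ψ : B →ₐ[k] C) (z : M (k := k) A d) :
    ch (ψ.comp φ) z = ch ψ (ch φ z) := by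
  induction z using TensorProduct.induction_on with
  | zero => simp
  | tmul x m => simp [ch_tmul]
  | add x y hx hy => simp [hx, hy]

/-- Base change in the Grassmannian is the span of the image. -/
theorem ker_baseChangeMkQ_eq (N : Submodule A (M (k := k) A d)) :
    letI : Algebra A B := φ.toAlgebra
    haveI : IsScalarTower k A B := IsScalarTower.of_algebraMap_eq' <| IsScalarTower.algebraMap_eq k A B
    LinearMap.ker (Module.Grassmannian.baseChangeMkQ (R := k) B N) = Submodule.span B (ch φ '' (N : Set _)) := by
  algebraize [φ.toRingHom]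
  haveI : IsScalarTower k A B := IsScalarTower.of_algebraMap_eq fun x => (φ.commutes x).symm
  set e := TensorProduct.AlgebraTensorModule.cancelBaseChange k A B B (Fin d → k)
  set N' := N
  have hch : ∀ z : M (k := k) A d, e.symm (ch φ z) = (1 : B) ⊗ₜ[A] z := by
    intro z
    induction z using TensorProduct.induction_on with
    | zero => rw [map_zero, LinearEquiv.map_zero, tmul_zero]
    | tmul x m =>
      rw [ch_tmul]
      simp only [e, TensorProduct.AlgebraTensorModule.cancelBaseChange_symm_tmul]
      rw [show (x ⊗ₜ[k] m : A ⊗[k] (Fin d → k)) = x • ((1 : A) ⊗ₜ[k] m) by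
        rw [smul_tmul', smul_eq_mul, mul_one], ← smul_tmul]
      congr 1
      rw [Algebra.smul_def, mul_one]
      rfl
    | add x y hx hy => rw [map_add, LinearEquiv.map_add, hx, hy, tmul_add]
  apply le_antisymm
  · intro z hz
    have hz' : N'.mkQ.baseChange B (e.symm z) = 0 := hz
    have hex0 : Function.Exact N'.subtype N'.mkQ := LinearMap.exact_subtype_mkQ N'
    have hex := @lTensor_exact A ↥N' (M (k := k) A d) (M (k := k) A d ⧸ N') _ _ _ _ _ _ _ N'.subtype N'.mkQ B _ _ hex0 N'.mkQ_surjective
    obtain ⟨w, hw⟩ := (hex (e.symm z)).mp hz'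
    rw [show z = e (e.symm z) from (e.apply_symm_apply z).symm, ← hw]
    clear hw hz hz'
    induction w using TensorProduct.induction_on with
    | zero => simp
    | tmul b v =>
      rw [LinearMap.lTensor_tmul, show (b ⊗ₜ[A] (N'.subtype v)) = b • ((1 : B) ⊗ₜ[A] (N'.subtype v)) by
        rw [smul_tmul', smul_eq_mul, mul_one], map_smul, ← hch, e.apply_symm_apply]
      exact Submodule.smul_mem _ _ (Submodule.subset_span ⟨v.1, v.2, rfl⟩)
    | add x y hx hy => simp only [map_add]; exact add_mem hx hy
  · rw [Submodule.span_le]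
    rintro _ ⟨v, hv, rfl⟩
    show N'.mkQ.baseChange B (e.symm (ch φ v)) = 0
    rw [hch, LinearMap.baseChange_tmul, show N'.mkQ v = 0 from (Submodule.Quotient.mk_eq_zero _).mpr hv, tmul_zero]

theorem map_toSubmodule_eq {q : ℕ} (N : Module.Grassmannian A (M (k := k) A d) q) :
    (Module.Grassmannian.map φ N).toSubmodule = Submodule.span B (ch φ '' (N.toSubmodule : Set _)) := by
  rw [Module.Grassmannian.map_toSubmodule]
  exact ker_baseChangeMkQ_eq φ N.toSubmodule

/-- Ranks of quotients descend along base change. -/
theorem rankAtStalk_quot_eq {q : ℕ} (N : Submodule A (M (k := k) A d)) [Module.Finite A (M (k := k) A d ⧸ N)]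
    [Module.Projective A (M (k := k) A d ⧸ N)] (N' : Module.Grassmannian B (M (k := k) B d) q)
    (h : Submodule.span B (ch φ '' (N : Set _)) = N'.toSubmodule) (p : PrimeSpectrum B) :
    Module.rankAtStalk (R := A) (M (k := k) A d ⧸ N) (PrimeSpectrum.comap φ.toRingHom p) = q := by
  have hk := (ker_baseChangeMkQ_eq φ N).trans h
  letI : Algebra A B := φ.toAlgebra
  haveI : IsScalarTower k A B := IsScalarTower.of_algebraMap_eq' <| IsScalarTower.algebraMap_eq k A B
  let eqv := (Submodule.quotEquivOfEq _ _ hk.symm).trans (Module.Grassmannian.baseChangeMkQEquiv (R := k) (B := B) N)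
  refine ((Module.rankAtStalk_baseChange (R := A) (M := M (k := k) A d ⧸ N) p).symm.trans ?_)
  rw [← congrFun (Module.rankAtStalk_eq_of_equiv eqv) p]
  exact N'.rankAtStalk_eq p

theorem ch_mem {q : ℕ} {N : Module.Grassmannian A (M (k := k) A d) q} {v : M (k := k) A d}
    (hv : v ∈ N.toSubmodule) : ch φ v ∈ (Module.Grassmannian.map φ N).toSubmodule := by
  rw [map_toSubmodule_eq]; exact Submodule.subset_span ⟨v, hv, rfl⟩

/-- For a surjection every element of the base change lifts. -/
theorem exists_lift_mem (hφ : Function.Surjective φ) {q : ℕ} {N : Module.Grassmannian A (M (k := k) A d) q}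
    {v : M (k := k) B d} (hv : v ∈ (Module.Grassmannian.map φ N).toSubmodule) :
    ∃ w ∈ N.toSubmodule, ch φ w = v := by
  rw [map_toSubmodule_eq] at hv
  induction hv using Submodule.span_induction with
  | mem x hx => exact hx
  | zero => exact ⟨0, zero_mem _, map_zero _⟩
  | add x y _ _ hx hy =>
    obtain ⟨a, ha, rfl⟩ := hx
    obtain ⟨b, hb, rfl⟩ := hy
    exact ⟨a + b, add_mem ha hb, map_add _ _ _⟩
  | smul c x _ hx =>
    obtain ⟨a, ha, rfl⟩ := hx
    obtain ⟨c', rfl⟩ := hφ c
    exact ⟨c' • a, Submodule.smul_mem _ _ ha, ch_smul φ c' a⟩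

end Change

/-! ### Propagation along the chain -/

variable (f g : Fin n → ((Fin d → k) →ₗ[k] (Fin d → k))) (A : Type u) [CommRing A] [Algebra k A]

/-- The `i`-th map of the chain, extended by zero. -/
def ext0 (h : Fin n → ((Fin d → k) →ₗ[k] (Fin d → k))) (i : ℕ) : Module.End A (M (k := k) A d) :=
  if hi : i < n then (h ⟨i, hi⟩).baseChange A else 0

/-- `t` steps forward from level `j`. -/
def up (j : ℕ) : ℕ → Module.End A (M (k := k) A d)
  | 0 => 1
  | t + 1 => ext0 A f (j + t) * up j t

/-- `t` steps backward from level `j`. -/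
def down (j : ℕ) : ℕ → Module.End A (M (k := k) A d)
  | 0 => 1
  | t + 1 => ext0 A g (j - (t + 1)) * down j t

/-- Propagation from level `j` to level `i`. -/
def path (j i : ℕ) : Module.End A (M (k := k) A d) :=
  if j ≤ i then up f A j (i - j) else down g A j (j - i)

theorem path_self (j : ℕ) : path f g A j j = 1 := by simp [path, up]

theorem path_succ {j i : ℕ} (h : j ≤ i) : path f g A j (i + 1) = ext0 A f i * path f g A j i := by
  rw [path, path, if_pos h, if_pos (by omega), show i + 1 - j = (i - j) + 1 by omega, up,
    show j + (i - j) = i by omega]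

theorem path_pred {j i : ℕ} (h : i < j) : path f g A j i = ext0 A g i * path f g A j (i + 1) := by
  rw [path, if_neg (by omega)]
  by_cases h' : j = i + 1
  · subst h'
    rw [path_self, show i + 1 - i = 1 by omega, down, down, show i + 1 - (0 + 1) = i by omega]
  · rw [path, if_neg (by omega), show j - i = (j - (i + 1)) + 1 by omega, down,
      show j - (j - (i + 1) + 1) = i by omega]

variable {A} in
theorem ch_path {B : Type u} [CommRing B] [Algebra k B] (φ : A →ₐ[k] B) (j i : ℕ) (v : M (k := k) A d) :
    ch φ (path f g A j i v) = path f g B j i (ch φ v) := by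
  have hext : ∀ (h : Fin n → ((Fin d → k) →ₗ[k] (Fin d → k))) (i : ℕ) (v : M (k := k) A d),
      ch φ (ext0 A h i v) = ext0 B h i (ch φ v) := by
    intro h i v
    unfold ext0
    split_ifs with hi
    · exact ch_baseChange φ _ v
    · simp
  simp only [path]
  split_ifs
  · generalize i - j = t
    induction t with
    | zero => rfl
    | succ t ih => simp [up, Module.End.mul_apply, hext, ih]
  · generalize j - i = t
    induction t with
    | zero => rfl
    | succ t ih => simp [down, Module.End.mul_apply, hext, ih]

/-- The spans of the propagations of a family of vectors form a linked chain. -/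
theorem map_span_le (s : k) (hI : ∀ i, (f i).comp (g i) = s • LinearMap.id ∧ (g i).comp (f i) = s • LinearMap.id)
    {ι : Type*} (J : ι → ℕ) (v : ι → M (k := k) A d) (i : Fin n) :
    Submodule.map ((f i).baseChange A) (Submodule.span A (Set.range fun a => path f g A (J a) i.val (v a))) ≤
        Submodule.span A (Set.range fun a => path f g A (J a) (i.val + 1) (v a)) ∧
      Submodule.map ((g i).baseChange A) (Submodule.span A (Set.range fun a => path f g A (J a) (i.val + 1) (v a))) ≤
        Submodule.span A (Set.range fun a => path f g A (J a) i.val (v a)) := by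
  have hf : ext0 A f i.val = (f i).baseChange A := by simp [ext0]
  have hg : ext0 A g i.val = (g i).baseChange A := by simp [ext0]
  have hfg : ∀ z, (f i).baseChange A ((g i).baseChange A z) = algebraMap k A s • z := by
    intro z
    rw [← LinearMap.comp_apply, ← LinearMap.baseChange_comp, (hI i).1, LinearMap.baseChange_smul,
      LinearMap.baseChange_id, LinearMap.smul_apply, LinearMap.id_apply, IsScalarTower.algebraMap_smul]
  have hgf : ∀ z, (g i).baseChange A ((f i).baseChange A z) = algebraMap k A s • z := by
    intro z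
    rw [← LinearMap.comp_apply, ← LinearMap.baseChange_comp, (hI i).2, LinearMap.baseChange_smul,
      LinearMap.baseChange_id, LinearMap.smul_apply, LinearMap.id_apply, IsScalarTower.algebraMap_smul]
  constructor <;> rw [Submodule.map_le_iff_le_comap, Submodule.span_le] <;> rintro _ ⟨a, rfl⟩ <;>
    simp only [SetLike.mem_coe, Submodule.mem_comap] <;> rcases le_or_gt (J a) i.val with h | h
  · refine Submodule.subset_span ⟨a, ?_⟩
    simp only []
    rw [path_succ f g A h, Module.End.mul_apply, hf]
  · rw [path_pred f g A h, Module.End.mul_apply, hg, hfg]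
    exact Submodule.smul_mem _ _ (Submodule.subset_span ⟨a, rfl⟩)
  · rw [path_succ f g A h, Module.End.mul_apply, hf, hgf]
    exact Submodule.smul_mem _ _ (Submodule.subset_span ⟨a, rfl⟩)
  · refine Submodule.subset_span ⟨a, ?_⟩
    simp only []
    rw [path_pred f g A h, Module.End.mul_apply, hg]

end Groth.Agent.LG86

end
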