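import Groth.Agent.LG86.Chart
import Groth.Agent.LG86.Family

/-!
# The exact locus, its density, and its charts
-/

set_option autoImplicit false
set_option maxHeartbeats 1000000

universe u

open TensorProduct CategoryTheory AlgebraicGeometry IsLocalRing

noncomputable section

namespace Groth.Agent.LG86

variable {k : Type u} [CommRing k] {d r n : ℕ} {f g : Fin n → ((Fin d → k) →ₗ[k] (Fin d → k))}
  {X : Over (Spec (CommRingCat.of k))} (E : Rep (r := r) f g X) {s : k} (H : Hyp f g s) (hrd : r ≤ d)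

theorem exists_pt (z : X.left) :
    ∃ (K : Type u) (_ : Field K) (_ : Algebra k K) (y : specOver (CommAlgCat.of k K) ⟶ X),
      y.left (closedPoint K) = z := by
  let K : Type u := X.left.residueField z
  let yl : Spec (CommRingCat.of K) ⟶ X.left := X.left.fromSpecResidueField z
  let α : CommRingCat.of k ⟶ CommRingCat.of K := Spec.preimage (yl ≫ X.hom)
  letI : Algebra k K := α.hom.toAlgebra
  let y : specOver (CommAlgCat.of k K) ⟶ X := Over.homMk yl (by
    change _ = Spec.map (CommRingCat.ofHom α.hom)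
    exact (Spec.map_preimage (yl ≫ X.hom)).symm)
  exact ⟨K, inferInstance, inferInstance, y, Scheme.fromSpecResidueField_apply z _⟩

/-- The exact locus: the union of the charts. -/
def exLocus : Set X.left := ⋃ Δ : Data d r n, Set.range (chart E H Δ hrd)

theorem isOpen_exLocus : IsOpen (exLocus E H hrd) :=
  isOpen_iUnion fun Δ => (isOpenEmbedding_chart (Δ := Δ) (hrd := hrd) E H).isOpen_range

theorem exists_chart_of_exact {K : Type u} [Field K] [Algebra k K] (y : specOver (CommAlgCat.of k K) ⟶ X)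
    (hy : W4c1limliniiii.IsExact k d r n f g K (E.e (CommAlgCat.of k K) y).1) :
    ∃ Δ : Data d r n, (algebraMap k K s ≠ 0 → ∀ a, Δ.J a = 0) ∧
      y.left (closedPoint K) ∈ Set.range (chart E H Δ hrd) := by
  let V : Fin (n + 1) → Module.Grassmannian K (M (k := k) K d) (d - r) := (E.e (CommAlgCat.of k K) y).1
  obtain ⟨J, c, κ, q, hJ, hmem, hu⟩ := exists_normal (K := K) (V := V) hrd H (E.e (CommAlgCat.of k K) y).2 hy
  let Δ : Data d r n := ⟨J, c, κ⟩
  have h : IsUnit (dd f g Δ hrd q) := IsUnit.prod_iff.mpr fun i _ => hu i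
  refine ⟨Δ, hJ, Spec.map (CommRingCat.ofHom (classify h).toRingHom) (closedPoint K), ?_⟩
  rw [comp_of_mem E H y h hmem]
  rfl

theorem chart_exact {Δ : Data d r n} {K : Type u} [Field K] [Algebra k K] (y : specOver (CommAlgCat.of k K) ⟶ X)
    (hy : y.left (closedPoint K) ∈ Set.range (chart E H Δ hrd)) :
    W4c1limliniiii.IsExact k d r n f g K (E.e (CommAlgCat.of k K) y).1 ∧
      (algebraMap k K s = 0 → ∀ i : Fin n, rk f (E.e (CommAlgCat.of k K) y).1 i.val =
        Fintype.card {a : Fin r // (Δ.J a).val ≤ i.val}) := by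
  obtain ⟨q, h, hV⟩ := exists_coords E H y hy
  have hind : ∀ i : Fin (n + 1), LinearIndependent K fun a => path f g K (Δ.J a).val i.val (wv Δ q a) := by
    intro i
    have h2 := (bas (isUnit_level h i)).linearIndependent.comp Sum.inl Sum.inl_injective
    rw [show ⇑(bas (isUnit_level h i)) ∘ Sum.inl = pth f g Δ q i from funext fun a => by simp [bas_apply, fam]] at h2
    exact h2
  rw [hV]
  exact ⟨isExact_of_span H hind fun i => rfl, fun hs i => rk_of_span H hs hind (fun i => rfl) i⟩

theorem mem_exLocus_iff {K : Type u} [Field K] [Algebra k K] (y : specOver (CommAlgCat.of k K) ⟶ X) :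
    y.left (closedPoint K) ∈ exLocus E H hrd ↔ W4c1limliniiii.IsExact k d r n f g K (E.e (CommAlgCat.of k K) y).1 := by
  constructor
  · intro hy
    obtain ⟨Δ, hΔ⟩ := Set.mem_iUnion.mp hy
    exact (chart_exact E H hrd y hΔ).1
  · intro hy
    obtain ⟨Δ, -, hΔ⟩ := exists_chart_of_exact E H hrd y hy
    exact Set.mem_iUnion.mpr ⟨Δ, hΔ⟩

theorem exists_specializes_exLocus (z : X.left) : ∃ z' ∈ exLocus E H hrd, z' ⤳ z := by
  obtain ⟨K, _, _, y, rfl⟩ := exists_pt (X := X) z
  by_cases hy : W4c1limliniiii.IsExact k d r n f g K (E.e (CommAlgCat.of k K) y).1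
  · exact ⟨_, (mem_exLocus_iff E H hrd y).mpr hy, specializes_refl _⟩
  · obtain ⟨L, _, _, y1, _, _, _, _, _, h1, -, hx1, -, -⟩ :=
      exists_two_gen E hrd H y hy
    exact ⟨_, (mem_exLocus_iff E H hrd y1).mpr hx1, h1⟩

theorem dense_exLocus : Dense (exLocus E H hrd) := fun z => by
  obtain ⟨z', hz', h⟩ := exists_specializes_exLocus E H hrd z
  exact closure_mono (Set.singleton_subset_iff.mpr hz') (specializes_iff_mem_closure.mp h)

theorem dd_qX_ne_zero {Δ : Data d r n} (z : Spec (CommRingCat.of (Q f g Δ hrd))) :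
    dd f g Δ hrd (qX (k := k) (d := d) (r := r)) ≠ 0 := fun h0 => by
  have hu := IsLocalization.Away.algebraMap_isUnit (S := Q f g Δ hrd) (dd f g Δ hrd (qX (k := k) (d := d) (r := r)))
  rw [congrArg (algebraMap (MvPolynomial (Fin r × Fin (d - r)) k) (Q f g Δ hrd)) h0, map_zero, isUnit_zero_iff] at hu
  exact (z : PrimeSpectrum (Q f g Δ hrd)).isPrime.ne_top (Ideal.eq_top_iff_one _ |>.mpr
    (hu ▸ zero_mem _))

theorem isIrreducible_range [IsDomain k] {Δ : Data d r n} (hne : (Set.range (chart E H Δ hrd)).Nonempty) :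
    IsIrreducible (Set.range (chart E H Δ hrd)) := by
  obtain ⟨_, z, rfl⟩ := hne
  haveI : IsDomain (Q f g Δ hrd) := IsLocalization.isDomain_localization
    (powers_le_nonZeroDivisors_of_noZeroDivisors (dd_qX_ne_zero hrd z))
  haveI : IrreducibleSpace ↥(Spec (CommRingCat.of (Q f g Δ hrd))) :=
    inferInstanceAs (IrreducibleSpace (PrimeSpectrum (Q f g Δ hrd)))
  rw [← Set.image_univ]
  exact (IrreducibleSpace.isIrreducible_univ _).image _ (chart E H Δ hrd).continuous.continuousOn

theorem component_chart [IsDomain k] {Δ : Data d r n} {Z : Set X.left} (hZ : Z ∈ irreducibleComponents X.left)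
    {z : X.left} (hzZ : z ∈ Z) (hz : z ∈ Set.range (chart E H Δ hrd)) :
    Z = closure (Set.range (chart E H Δ hrd)) ∧ ∃ η, IsGenericPoint η Z ∧ η ∈ Set.range (chart E H Δ hrd) := by
  obtain ⟨η, hη⟩ := QuasiSober.sober hZ.1 (isClosed_of_mem_irreducibleComponents Z hZ)
  have hηO : η ∈ Set.range (chart E H Δ hrd) :=
    (hη.specializes hzZ).mem_open (isOpenEmbedding_chart (Δ := Δ) (hrd := hrd) E H).isOpen_range hz
  have hsub : Z ⊆ closure (Set.range (chart E H Δ hrd)) := by
    rw [← hη.def]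
    exact closure_mono (Set.singleton_subset_iff.mpr hηO)
  exact ⟨le_antisymm hsub (hZ.2 (isIrreducible_range E H hrd ⟨z, hz⟩).closure hsub), η, hη, hηO⟩

theorem component_meets {Z : Set X.left} (hZ : Z ∈ irreducibleComponents X.left) :
    ∃ Δ : Data d r n, ∃ z ∈ Z, z ∈ Set.range (chart E H Δ hrd) := by
  obtain ⟨η, hη⟩ := QuasiSober.sober hZ.1 (isClosed_of_mem_irreducibleComponents Z hZ)
  obtain ⟨z', hz', h⟩ := exists_specializes_exLocus E H hrd η
  have hsub : Z ⊆ closure {z'} := by
    rw [← hη.def]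
    exact closure_minimal (Set.singleton_subset_iff.mpr (specializes_iff_mem_closure.mp h)) isClosed_closure
  have heq : closure {z'} ⊆ Z := hZ.2 isIrreducible_singleton.closure hsub
  obtain ⟨Δ, hΔ⟩ := Set.mem_iUnion.mp hz'
  exact ⟨Δ, z', heq (subset_closure rfl), hΔ⟩

end Groth.Agent.LG86

end
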