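import Groth.Agent.LG86.Grass

/-!
# Identities between the base changed maps of a linked chain
-/

set_option autoImplicit false

universe u

open TensorProduct

noncomputable section

namespace Groth.Agent.LG86

section Field

variable {K : Type*} [Field K] {V : Type*} [AddCommGroup V] [Module K V] [FiniteDimensional K V]

theorem exists_factor {φ ψ : V →ₗ[K] V} (h : LinearMap.range φ ⊓ LinearMap.ker ψ = ⊥) :
    ∃ χ : V →ₗ[K] V, χ.comp (ψ.comp φ) = φ := by
  have hker : LinearMap.ker (ψ.comp φ).rangeRestrict ≤ LinearMap.ker φ := by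
    intro x hx
    rw [LinearMap.ker_rangeRestrict] at hx
    have : φ x ∈ LinearMap.range φ ⊓ LinearMap.ker ψ := ⟨⟨x, rfl⟩, hx⟩
    rw [h] at this
    exact this
  obtain ⟨σ, hσ⟩ := LinearMap.exists_rightInverse_of_surjective (ψ.comp φ).rangeRestrict
    (LinearMap.range_eq_top.mpr (LinearMap.surjective_rangeRestrict _))
  obtain ⟨χ, hχ⟩ := LinearMap.exists_extend (φ.comp σ)
  refine ⟨χ, LinearMap.ext fun x => ?_⟩
  have h1 : χ ((ψ.comp φ).rangeRestrict x : V) = φ (σ ((ψ.comp φ).rangeRestrict x)) :=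
    LinearMap.congr_fun hχ ((ψ.comp φ).rangeRestrict x)
  refine h1.trans ?_
  rw [← sub_eq_zero, ← map_sub]
  apply hker
  rw [LinearMap.mem_ker, map_sub, show (ψ.comp φ).rangeRestrict (σ ((ψ.comp φ).rangeRestrict x)) = _ from
    LinearMap.congr_fun hσ _, LinearMap.id_apply, sub_self]

theorem exists_split {φ ψ : V →ₗ[K] V} (h0 : ψ.comp φ = 0)
    (hr : Module.finrank K V ≤ Module.finrank K (LinearMap.range φ) + Module.finrank K (LinearMap.range ψ)) :
    ∃ a b : V →ₗ[K] V, φ.comp a + b.comp ψ = LinearMap.id := by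
  have hrk : LinearMap.range φ = LinearMap.ker ψ := by
    refine Submodule.eq_of_le_of_finrank_le (LinearMap.range_le_ker_iff.mpr h0) ?_
    have := LinearMap.finrank_range_add_finrank_ker ψ
    omega
  obtain ⟨τ, hτ⟩ := LinearMap.exists_rightInverse_of_surjective ψ.rangeRestrict
    (LinearMap.range_eq_top.mpr (LinearMap.surjective_rangeRestrict _))
  obtain ⟨b, hb⟩ := LinearMap.exists_extend τ
  obtain ⟨σ, hσ⟩ := LinearMap.exists_rightInverse_of_surjective φ.rangeRestrict
    (LinearMap.range_eq_top.mpr (LinearMap.surjective_rangeRestrict _))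
  obtain ⟨a0, ha0⟩ := LinearMap.exists_extend σ
  let π : V →ₗ[K] V := LinearMap.id - b.comp ψ
  refine ⟨a0.comp π, b, LinearMap.ext fun x => ?_⟩
  have hπ : π x ∈ LinearMap.range φ := by
    rw [hrk, LinearMap.mem_ker]
    have h1 : b (ψ x) = τ (ψ.rangeRestrict x) := LinearMap.congr_fun hb (ψ.rangeRestrict x)
    have h2 : ψ (τ (ψ.rangeRestrict x)) = ψ x := congrArg Subtype.val (LinearMap.congr_fun hτ (ψ.rangeRestrict x))
    simp [π, h1, h2]
  have h3 : a0 (π x) = σ ⟨π x, hπ⟩ := LinearMap.congr_fun ha0 ⟨π x, hπ⟩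
  have h4 : φ (σ ⟨π x, hπ⟩) = π x := congrArg Subtype.val (LinearMap.congr_fun hσ ⟨π x, hπ⟩)
  simp only [LinearMap.add_apply, LinearMap.comp_apply, h3, h4]
  simp [π]

end Field

variable {k : Type u} [CommRing k] {d n : ℕ}

theorem ext0_eq {A : Type u} [CommRing A] [Algebra k A] {h : Fin n → ((Fin d → k) →ₗ[k] (Fin d → k))} (i : Fin n) :
    ext0 A h i.val = (h i).baseChange A := by simp [ext0]

theorem ch_ext0 {A B : Type u} [CommRing A] [Algebra k A] [CommRing B] [Algebra k B] (φ : A →ₐ[k] B)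
    (h : Fin n → ((Fin d → k) →ₗ[k] (Fin d → k))) (i : ℕ) (z : M (k := k) A d) :
    ch φ (ext0 A h i z) = ext0 B h i (ch φ z) := by
  unfold ext0
  split_ifs with hi
  · exact ch_baseChange φ _ z
  · simp

/-- The hypotheses on the maps of a linked Grassmannian, on all field valued fibres. -/
structure Hyp (f g : Fin n → ((Fin d → k) →ₗ[k] (Fin d → k))) (s : k) : Prop where
  hI : ∀ i, (f i).comp (g i) = s • LinearMap.id ∧ (g i).comp (f i) = s • LinearMap.id
  ff_zero : ∀ {K : Type u} [Field K] [Algebra k K] {i : ℕ}, i + 1 < n → ∀ {z : M (k := k) K d},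
    ext0 K f (i + 1) (ext0 K f i z) = 0 → ext0 K f i z = 0
  gg_zero : ∀ {K : Type u} [Field K] [Algebra k K] {i : ℕ}, i + 1 < n → ∀ {z : M (k := k) K d},
    ext0 K g i (ext0 K g (i + 1) z) = 0 → ext0 K g (i + 1) z = 0
  exists_of_g_eq_zero : ∀ {K : Type u} [Field K] [Algebra k K], algebraMap k K s = 0 → ∀ {i : ℕ}, i < n →
    ∀ {z : M (k := k) K d}, ext0 K g i z = 0 → ∃ u, ext0 K f i u = z
  exists_of_f_eq_zero : ∀ {K : Type u} [Field K] [Algebra k K], algebraMap k K s = 0 → ∀ {i : ℕ}, i < n →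
    ∀ {z : M (k := k) K d}, ext0 K f i z = 0 → ∃ u, ext0 K g i u = z

variable {f g : Fin n → ((Fin d → k) →ₗ[k] (Fin d → k))} {s : k}

section
variable (H : Hyp f g s) {A : Type u} [CommRing A] [Algebra k A]
include H

theorem Hyp.fg {i : ℕ} (hi : i < n) (z : M (k := k) A d) :
    ext0 A f i (ext0 A g i z) = algebraMap k A s • z := by
  rw [show ext0 A f i = (f ⟨i, hi⟩).baseChange A from ext0_eq ⟨i, hi⟩,
    show ext0 A g i = (g ⟨i, hi⟩).baseChange A from ext0_eq ⟨i, hi⟩,
    ← LinearMap.comp_apply, ← LinearMap.baseChange_comp, (H.hI ⟨i, hi⟩).1, LinearMap.baseChange_smul,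
    LinearMap.baseChange_id, LinearMap.smul_apply, LinearMap.id_apply, IsScalarTower.algebraMap_smul]

theorem Hyp.gf {i : ℕ} (hi : i < n) (z : M (k := k) A d) :
    ext0 A g i (ext0 A f i z) = algebraMap k A s • z := by
  rw [show ext0 A f i = (f ⟨i, hi⟩).baseChange A from ext0_eq ⟨i, hi⟩,
    show ext0 A g i = (g ⟨i, hi⟩).baseChange A from ext0_eq ⟨i, hi⟩,
    ← LinearMap.comp_apply, ← LinearMap.baseChange_comp, (H.hI ⟨i, hi⟩).2, LinearMap.baseChange_smul,
    LinearMap.baseChange_id, LinearMap.smul_apply, LinearMap.id_apply, IsScalarTower.algebraMap_smul]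

end

section Extend

variable {κ K : Type u} [CommRing κ] [Algebra k κ] [CommRing K] [Algebra k K] (φ : κ →ₐ[k] K)

/-- Extension of an endomorphism along a map of rings. -/
def extEnd (T : Module.End κ (M (k := k) κ d)) : Module.End K (M (k := k) K d) :=
  (stdB K d).constr k fun c => ch φ (T (stdB κ d c))

theorem extEnd_ch (T : Module.End κ (M (k := k) κ d)) (z : M (k := k) κ d) :
    extEnd φ T (ch φ z) = ch φ (T z) := by
  rw [← (stdB κ d).sum_repr z]
  simp only [map_sum, map_smul, ch_smul, ch_stdB, extEnd, Module.Basis.constr_basis]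

end Extend

/-- The hypotheses for all fields follow from those on enough fields. -/
theorem Hyp.of_cover (hI : ∀ i, (f i).comp (g i) = s • LinearMap.id ∧ (g i).comp (f i) = s • LinearMap.id)
    (cover : ∀ (K : Type u) [Field K] [Algebra k K], ∃ (κ : Type u) (_ : Field κ) (_ : Algebra k κ) (_ : κ →ₐ[k] K),
      (∀ i : Fin n, d ≤ Module.finrank κ (LinearMap.range ((f i).baseChange κ)) +
        Module.finrank κ (LinearMap.range ((g i).baseChange κ))) ∧
      ∀ i j : Fin n, i.val + 1 = j.val →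
        LinearMap.range ((f i).baseChange κ) ⊓ LinearMap.ker ((f j).baseChange κ) = ⊥ ∧
          LinearMap.range ((g j).baseChange κ) ⊓ LinearMap.ker ((g i).baseChange κ) = ⊥) :
    Hyp f g s := by
  have key : ∀ {K : Type u} [Field K] [Algebra k K] {κ : Type u} [Field κ] [Algebra k κ] (φ : κ →ₐ[k] K)
      (a b : Fin n → ((Fin d → k) →ₗ[k] (Fin d → k))) (i j : ℕ) (χ : Module.End κ (M (k := k) κ d)),
      (∀ w, χ (ext0 κ a i (ext0 κ b j w)) = ext0 κ b j w) → ∀ z : M (k := k) K d,
        extEnd φ χ (ext0 K a i (ext0 K b j z)) = ext0 K b j z := by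
    intro K _ _ κ _ _ φ a b i j χ h z
    rw [← (stdB K d).sum_repr z]
    simp only [map_sum, map_smul]
    refine Finset.sum_congr rfl fun c _ => ?_
    rw [← ch_stdB φ, ← ch_ext0, ← ch_ext0, extEnd_ch, h]
  have key2 : ∀ {K : Type u} [Field K] [Algebra k K] {κ : Type u} [Field κ] [Algebra k κ] (φ : κ →ₐ[k] K)
      (a b : Fin n → ((Fin d → k) →ₗ[k] (Fin d → k))) (i : ℕ) (α β : Module.End κ (M (k := k) κ d)),
      (∀ w, ext0 κ a i (α w) + β (ext0 κ b i w) = w) → ∀ z : M (k := k) K d,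
        ext0 K a i (extEnd φ α z) + extEnd φ β (ext0 K b i z) = z := by
    intro K _ _ κ _ _ φ a b i α β h z
    rw [← (stdB K d).sum_repr z]
    simp only [map_sum, map_smul, ← Finset.sum_add_distrib, ← smul_add]
    refine Finset.sum_congr rfl fun c _ => ?_
    congr 1
    rw [← ch_stdB φ, extEnd_ch, ← ch_ext0, ← ch_ext0, extEnd_ch, ← map_add, h]
  have hzero : ∀ {K : Type u} [Field K] [Algebra k K] {κ : Type u} [Field κ] [Algebra k κ] (_ : κ →ₐ[k] K),
      algebraMap k K s = 0 → algebraMap k κ s = 0 := fun φ h => φ.toRingHom.injective (by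
    rw [map_zero]; exact (φ.commutes s).trans h)
  have hdim : ∀ {κ : Type u} [Field κ] [Algebra k κ], Module.finrank κ (M (k := k) κ d) = d := fun {κ} _ _ => by
    rw [Module.finrank_eq_card_basis (stdB (k := k) κ d), Fintype.card_fin]
  refine ⟨hI, ?_, ?_, ?_, ?_⟩
  · intro K _ _ i hi z hz
    obtain ⟨κ, _, _, φ, -, hker⟩ := cover K
    haveI : Module.Finite κ (M (k := k) κ d) := Module.Finite.of_basis (stdB κ d)
    obtain ⟨χ, hχ⟩ := exists_factor (hker ⟨i, by omega⟩ ⟨i + 1, hi⟩ rfl).1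
    rw [← ext0_eq (A := κ), ← ext0_eq (A := κ)] at hχ
    rw [← key φ f f (i + 1) i χ (fun w => LinearMap.congr_fun hχ w) z, hz, map_zero]
  · intro K _ _ i hi z hz
    obtain ⟨κ, _, _, φ, -, hker⟩ := cover K
    haveI : Module.Finite κ (M (k := k) κ d) := Module.Finite.of_basis (stdB κ d)
    obtain ⟨χ, hχ⟩ := exists_factor (hker ⟨i, by omega⟩ ⟨i + 1, hi⟩ rfl).2
    rw [← ext0_eq (A := κ), ← ext0_eq (A := κ)] at hχ
    rw [← key φ g g i (i + 1) χ (fun w => LinearMap.congr_fun hχ w) z, hz, map_zero]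
  · intro K _ _ hs i hi z hz
    obtain ⟨κ, _, _, φ, hrk, -⟩ := cover K
    haveI : Module.Finite κ (M (k := k) κ d) := Module.Finite.of_basis (stdB κ d)
    obtain ⟨α, β, hab⟩ := exists_split (φ := (f ⟨i, hi⟩).baseChange κ) (ψ := (g ⟨i, hi⟩).baseChange κ)
      (by
        apply LinearMap.ext
        intro w
        rw [LinearMap.comp_apply, ← LinearMap.comp_apply, ← LinearMap.baseChange_comp, (hI ⟨i, hi⟩).2,
          LinearMap.baseChange_smul, LinearMap.baseChange_id, LinearMap.smul_apply, LinearMap.id_apply,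
          ← IsScalarTower.algebraMap_smul κ, hzero φ hs, zero_smul, LinearMap.zero_apply])
      (by rw [hdim]; exact hrk ⟨i, hi⟩)
    rw [← ext0_eq (A := κ), ← ext0_eq (A := κ)] at hab
    refine ⟨extEnd φ α z, ?_⟩
    have := key2 φ f g i α β (fun w => LinearMap.congr_fun hab w) z
    rwa [hz, map_zero, add_zero] at this
  · intro K _ _ hs i hi z hz
    obtain ⟨κ, _, _, φ, hrk, -⟩ := cover K
    haveI : Module.Finite κ (M (k := k) κ d) := Module.Finite.of_basis (stdB κ d)
    obtain ⟨α, β, hab⟩ := exists_split (φ := (g ⟨i, hi⟩).baseChange κ) (ψ := (f ⟨i, hi⟩).baseChange κ)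
      (by
        apply LinearMap.ext
        intro w
        rw [LinearMap.comp_apply, ← LinearMap.comp_apply, ← LinearMap.baseChange_comp, (hI ⟨i, hi⟩).1,
          LinearMap.baseChange_smul, LinearMap.baseChange_id, LinearMap.smul_apply, LinearMap.id_apply,
          ← IsScalarTower.algebraMap_smul κ, hzero φ hs, zero_smul, LinearMap.zero_apply])
      (by rw [hdim, add_comm]; exact hrk ⟨i, hi⟩)
    rw [← ext0_eq (A := κ), ← ext0_eq (A := κ)] at hab
    refine ⟨extEnd φ α z, ?_⟩
    have := key2 φ g f i α β (fun w => LinearMap.congr_fun hab w) z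
    rwa [hz, map_zero, add_zero] at this

/-- The hypotheses over a base field. -/
theorem Hyp.of_field {k : Type u} [Field k] {f g : Fin n → ((Fin d → k) →ₗ[k] (Fin d → k))} {s : k}
    (hI : ∀ i, (f i).comp (g i) = s • LinearMap.id ∧ (g i).comp (f i) = s • LinearMap.id)
    (hII : ∀ i, d ≤ Module.finrank k (LinearMap.range (f i)) + Module.finrank k (LinearMap.range (g i)))
    (hIII : ∀ i j : Fin n, i.val + 1 = j.val →
      LinearMap.range (f i) ⊓ LinearMap.ker (f j) = ⊥ ∧ LinearMap.range (g j) ⊓ LinearMap.ker (g i) = ⊥) :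
    Hyp f g s := by
  have hb : ∀ (h : (Fin d → k) →ₗ[k] (Fin d → k)) (z : M (k := k) k d),
      TensorProduct.lid k (Fin d → k) (h.baseChange k z) = h (TensorProduct.lid k (Fin d → k) z) := by
    intro h z
    induction z using TensorProduct.induction_on with
    | zero => simp
    | tmul x m => simp
    | add x y hx hy => simp [hx, hy]
  refine Hyp.of_cover hI fun K _ _ => ⟨k, inferInstance, inferInstance, Algebra.ofId k K, fun i => ?_, fun i j h => ?_⟩
  · have hr : ∀ h : (Fin d → k) →ₗ[k] (Fin d → k), Submodule.map (TensorProduct.lid k (Fin d → k)).toLinearMap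
        (LinearMap.range (h.baseChange k)) = LinearMap.range h := by
      intro h
      ext w
      constructor
      · rintro ⟨_, ⟨z, rfl⟩, rfl⟩; exact ⟨_, (hb h z).symm⟩
      · rintro ⟨z, rfl⟩
        exact ⟨_, ⟨(TensorProduct.lid k (Fin d → k)).symm z, rfl⟩, by simp⟩
    have := hII i
    rw [← hr (f i), ← hr (g i), LinearEquiv.finrank_map_eq, LinearEquiv.finrank_map_eq] at this
    exact this
  · constructor <;> rw [eq_bot_iff] <;> rintro w ⟨⟨z, rfl⟩, hz⟩ <;>
      rw [Submodule.mem_bot, ← LinearEquiv.map_eq_zero_iff (TensorProduct.lid k (Fin d → k)), hb]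
    · have hmem : f i (TensorProduct.lid k (Fin d → k) z) ∈ LinearMap.range (f i) ⊓ LinearMap.ker (f j) :=
        ⟨⟨_, rfl⟩, show f j _ = 0 by rw [← hb, ← hb, show (f j).baseChange k ((f i).baseChange k z) = 0 from hz, map_zero]⟩
      rw [(hIII i j h).1] at hmem
      exact hmem
    · have hmem : g j (TensorProduct.lid k (Fin d → k) z) ∈ LinearMap.range (g j) ⊓ LinearMap.ker (g i) :=
        ⟨⟨_, rfl⟩, show g i _ = 0 by rw [← hb, ← hb, show (g i).baseChange k ((g j).baseChange k z) = 0 from hz, map_zero]⟩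
      rw [(hIII i j h).2] at hmem
      exact hmem

end Groth.Agent.LG86

end
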