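import Groth.Agent.LG86.Locus

/-!
# Linked Grassmannians over a domain: every component dominates, irreducibility when `s ≠ 0`
-/

set_option autoImplicit false
set_option maxHeartbeats 1000000

universe u

open TensorProduct CategoryTheory AlgebraicGeometry IsLocalRing

noncomputable section

namespace Groth.Agent.LG86

variable {k : Type u} [CommRing k] {d r n : ℕ} {f g : Fin n → ((Fin d → k) →ₗ[k] (Fin d → k))}
  {X : Over (Spec (CommRingCat.of k))} (E : Rep (r := r) f g X) {s : k} (H : Hyp f g s) (hrd : r ≤ d)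

/-- Saturation of a tuple over a valuation ring. -/
theorem exists_extension {O K : Type u} [CommRing O] [IsDomain O] [ValuationRing O] [Field K] [Algebra k O]
    [Algebra k K] [Algebra O K] [IsFractionRing O K] [IsScalarTower k O K]
    {V : Fin (n + 1) → Module.Grassmannian K (M (k := k) K d) (d - r)}
    (hV : V ∈ W4c1limliniiii.LGPoints k d r n f g K) :
    ∃ W : Fin (n + 1) → Module.Grassmannian O (M (k := k) O d) (d - r),
      W ∈ W4c1limliniiii.LGPoints k d r n f g O ∧
        ∀ i, Module.Grassmannian.map (IsScalarTower.toAlgHom k O K) (W i) = V i := by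
  classical
  let ι : O →ₐ[k] K := IsScalarTower.toAlgHom k O K
  have hι : Function.Injective ι := IsFractionRing.injective O K
  let S : Fin (n + 1) → Submodule O (M (k := k) O d) := fun i =>
    { carrier := {z | ch ι z ∈ (V i).toSubmodule}
      add_mem' := fun {a b} ha hb => by
        simp only [Set.mem_setOf_eq, map_add] at ha hb ⊢
        exact add_mem ha hb
      zero_mem' := by simp only [Set.mem_setOf_eq, map_zero]; exact zero_mem _
      smul_mem' := fun c a ha => by
        simp only [Set.mem_setOf_eq, ch_smul] at ha ⊢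
        exact Submodule.smul_mem _ _ ha }
  have hsat : ∀ i, Submodule.span K (ch ι '' (S i : Set (M (k := k) O d))) = (V i).toSubmodule := by
    intro i
    refine le_antisymm (Submodule.span_le.mpr (by rintro _ ⟨z, hz, rfl⟩; exact hz)) fun v hv => ?_
    obtain ⟨⟨c, hc⟩, hint⟩ := IsLocalization.exist_integer_multiples_of_finite (nonZeroDivisors O)
      (fun j => (stdB K d).repr v j)
    choose a ha using hint
    have hc0 : ι c ≠ 0 := (map_ne_zero_iff _ hι).mpr (nonZeroDivisors.ne_zero hc)
    have hz : ch ι (∑ j, a j • stdB O d j) = ι c • v := by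
      conv_rhs => rw [← (stdB K d).sum_repr v]
      simp only [map_sum, ch_smul, ch_stdB, Finset.smul_sum, smul_smul]
      refine Finset.sum_congr rfl fun j _ => ?_
      congr 1
      exact (ha j).trans (Algebra.smul_def _ _)
    have hmem : (∑ j, a j • stdB O d j) ∈ S i := by
      show ch ι _ ∈ (V i).toSubmodule
      rw [hz]; exact Submodule.smul_mem _ _ hv
    have : v = (ι c)⁻¹ • ch ι (∑ j, a j • stdB O d j) := by rw [hz, smul_smul, inv_mul_cancel₀ hc0, one_smul]
    rw [this]
    exact Submodule.smul_mem _ _ (Submodule.subset_span ⟨_, hmem, rfl⟩)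
  haveI : Module.Finite O (M (k := k) O d) := Module.Finite.of_basis (stdB O d)
  have hflat : ∀ i, Module.Flat O (M (k := k) O d ⧸ S i) := by
    intro i
    rw [Module.Flat.flat_iff_torsion_eq_bot_of_isBezout, eq_bot_iff]
    intro z hz
    obtain ⟨z, rfl⟩ := Submodule.mkQ_surjective _ z
    obtain ⟨⟨c, hc⟩, hcz⟩ := (Submodule.mem_torsion_iff _).mp hz
    rw [Submodule.mem_bot, Submodule.mkQ_apply, Submodule.Quotient.mk_eq_zero]
    have h : c • z ∈ S i := by
      rw [← Submodule.Quotient.mk_eq_zero]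
      exact hcz
    have hc0 : ι c ≠ 0 := (map_ne_zero_iff _ hι).mpr (nonZeroDivisors.ne_zero hc)
    change ch ι (c • z) ∈ (V i).toSubmodule at h
    rw [ch_smul, Submodule.smul_mem_iff _ hc0] at h
    exact h
  haveI : ∀ i, Module.Free O (M (k := k) O d ⧸ S i) := fun i => by
    haveI := hflat i
    exact Module.free_of_flat_of_isLocalRing
  have hrank : ∀ i (p : PrimeSpectrum O), Module.rankAtStalk (R := O) (M (k := k) O d ⧸ S i) p = d - r := by
    intro i p
    have h := rankAtStalk_quot_eq ι (S i) (V i) (hsat i) ⟨⊥, Ideal.isPrime_bot⟩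
    rw [Module.rankAtStalk_eq_finrank_of_free] at h ⊢
    exact h
  let W : Fin (n + 1) → Module.Grassmannian O (M (k := k) O d) (d - r) := fun i =>
    ⟨S i, inferInstance, inferInstance, hrank i⟩
  refine ⟨W, fun i => ⟨?_, ?_⟩, fun i =>
    Module.Grassmannian.ext ((map_toSubmodule_eq ι (W i)).trans (hsat i))⟩ <;>
    rintro _ ⟨z, hz, rfl⟩ <;> show ch ι _ ∈ (V _).toSubmodule <;> rw [ch_baseChange]
  · exact (hV i).1 ⟨_, hz, rfl⟩
  · exact (hV i).2 ⟨_, hz, rfl⟩

variable [IsDomain k]

include H hrd in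
/-- The generic point of a component lies in a chart and over the generic point of the base. -/
theorem component_generic {Z : Set X.left} (hZ : Z ∈ irreducibleComponents X.left) :
    ∃ η, IsGenericPoint η Z ∧ ∃ (Δ : Data d r n) (K : Type u) (_ : Field K) (_ : Algebra k K)
      (y : specOver (CommAlgCat.of k K) ⟶ X), y.left (closedPoint K) = η ∧
        Function.Injective (algebraMap k K) ∧ η ∈ Set.range (chart E H Δ hrd) := by
  obtain ⟨Δ, z, hzZ, hz⟩ := component_meets E H hrd hZ
  obtain ⟨-, η, hη, w, hw⟩ := component_chart E H hrd hZ hzZ hz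
  haveI : IsDomain (Q f g Δ hrd) := IsLocalization.isDomain_localization
    (powers_le_nonZeroDivisors_of_noZeroDivisors (dd_qX_ne_zero hrd w))
  let F : Type u := FractionRing (Q f g Δ hrd)
  let ψ : Q f g Δ hrd →ₐ[k] F := IsScalarTower.toAlgHom k (Q f g Δ hrd) F
  let ξ : Spec (CommRingCat.of (Q f g Δ hrd)) := Spec.map (CommRingCat.ofHom ψ.toRingHom) (closedPoint F)
  have hξ : ξ ⤳ w := by
    refine (PrimeSpectrum.le_iff_specializes (ξ : PrimeSpectrum _) w).mp ?_
    intro a ha
    change ψ a ∈ maximalIdeal F at ha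
    rw [IsLocalRing.maximalIdeal_eq_bot, Ideal.mem_bot] at ha
    change algebraMap (Q f g Δ hrd) F a = 0 at ha
    rw [IsFractionRing.to_map_eq_zero_iff] at ha
    rw [ha]; exact zero_mem _
  have hsp : chart E H Δ hrd ξ ⤳ η := hw ▸ hξ.map (chart E H Δ hrd).continuous
  have hsub : Z ⊆ closure {chart E H Δ hrd ξ} := by
    rw [← hη.def]
    exact closure_minimal (Set.singleton_subset_iff.mpr (specializes_iff_mem_closure.mp hsp)) isClosed_closure
  have hgen : IsGenericPoint (chart E H Δ hrd ξ) Z :=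
    le_antisymm (hZ.2 isIrreducible_singleton.closure hsub) hsub
  let y : specOver (CommAlgCat.of k F) ⟶ X := Over.homMk
    (Spec.map (CommRingCat.ofHom ψ.toRingHom) ≫ chart E H Δ hrd) (by
      change (Spec.map _ ≫ (chartPt E H Δ hrd).left) ≫ X.hom = _
      rw [Category.assoc, Over.w (chartPt E H Δ hrd)]
      change Spec.map _ ≫ Spec.map _ = Spec.map _
      rw [← Spec.map_comp]
      congr 1)
  refine ⟨η, hη, Δ, F, inferInstance, inferInstance, y, hgen.eq hη, ?_, w, hw⟩
  intro a b hab
  rw [IsScalarTower.algebraMap_apply k (MvPolynomial (Fin r × Fin (d - r)) k) F,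
    IsScalarTower.algebraMap_apply k (MvPolynomial (Fin r × Fin (d - r)) k) F,
    IsScalarTower.algebraMap_apply (MvPolynomial (Fin r × Fin (d - r)) k) (Q f g Δ hrd) F,
    IsScalarTower.algebraMap_apply (MvPolynomial (Fin r × Fin (d - r)) k) (Q f g Δ hrd) F] at hab
  exact MvPolynomial.C_injective _ _ (IsLocalization.injective (Q f g Δ hrd)
    (powers_le_nonZeroDivisors_of_noZeroDivisors (dd_qX_ne_zero hrd w)) (IsFractionRing.injective _ F hab))

include E H hrd in
/-- Every component maps onto the base. -/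
theorem component_surjective {Z : Set X.left} (hZ : Z ∈ irreducibleComponents X.left) :
    X.hom.base '' Z = Set.univ := by
  refine Set.eq_univ_of_forall fun p => ?_
  obtain ⟨η, hη, Δ, K, _, _, y, hy, hinj, -⟩ := component_generic E H hrd hZ
  let p' : PrimeSpectrum k := p
  have hunit : ∀ a : p'.asIdeal.primeCompl, IsUnit (algebraMap k K a) := fun a =>
    IsUnit.mk0 _ fun h => a.2 (by
      rw [show (a : k) = 0 from hinj (h.trans (map_zero _).symm)]; exact zero_mem _)
  let fp : Localization.AtPrime p'.asIdeal →+* K := IsLocalization.lift (M := p'.asIdeal.primeCompl) hunit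
  obtain ⟨O, hO, hloc⟩ := IsLocalRing.exists_factor_valuationRing fp
  let φ : Localization.AtPrime p'.asIdeal →+* O := fp.codRestrict O.toSubring hO
  letI : Algebra k O := (φ.comp (algebraMap k (Localization.AtPrime p'.asIdeal))).toAlgebra
  haveI : IsScalarTower k O K := IsScalarTower.of_algebraMap_eq fun c =>
    (IsLocalization.lift_eq hunit c).symm
  obtain ⟨W, hW, hWV⟩ := exists_extension (O := O) (K := K) (V := (E.e (CommAlgCat.of k K) y).1) (E.e (CommAlgCat.of k K) y).2
  let γ : specOver (CommAlgCat.of k O) ⟶ X := (E.e (CommAlgCat.of k O)).symm ⟨W, hW⟩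
  let ι : O →ₐ[k] K := IsScalarTower.toAlgHom k O K
  have hfac : y.left = Spec.map (CommRingCat.ofHom ι.toRingHom) ≫ γ.left :=
    E.eq_comp (A := CommAlgCat.of k O) (B := CommAlgCat.of k K) (CommAlgCat.ofHom ι) γ y fun i => by
      rw [Equiv.apply_symm_apply]; exact (hWV i).symm
  let γl : Spec (CommRingCat.of O) ⟶ X.left := γ.left
  refine ⟨γl (closedPoint O), ?_, ?_⟩
  · have hsp : γl (Spec.map (CommRingCat.ofHom ι.toRingHom) (closedPoint K)) ⤳ γl (closedPoint O) :=
      (IsLocalRing.specializes_closedPoint _).map γl.continuous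
    have heq : γl (Spec.map (CommRingCat.ofHom ι.toRingHom) (closedPoint K)) = η := by
      rw [← hy, hfac]; rfl
    rw [heq] at hsp
    rw [← hη.def]
    exact specializes_iff_mem_closure.mp hsp
  · change (γl ≫ X.hom) (closedPoint O) = p
    rw [show γl ≫ X.hom = Spec.map (CommRingCat.ofHom (algebraMap k O)) from Over.w γ]
    apply PrimeSpectrum.ext
    change Ideal.comap (φ.comp (algebraMap k (Localization.AtPrime p'.asIdeal))) (maximalIdeal O) = p'.asIdeal
    rw [← Ideal.comap_comap, IsLocalRing.maximalIdeal_comap φ]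
    exact IsLocalization.AtPrime.comap_maximalIdeal _ p'.asIdeal

theorem isUnit_dt_of_span {K : Type u} [Field K] [Algebra k K] {hrd : r ≤ d} {u v : Fin r → M (k := k) K d}
    {κ : Fin (d - r) → Fin d} (hv : IsUnit (dt hrd v κ))
    (hs : Submodule.span K (Set.range v) ≤ Submodule.span K (Set.range u)) : IsUnit (dt hrd u κ) := by
  haveI : Module.Finite K (M (k := k) K d) := Module.Finite.of_basis (stdB K d)
  rw [dt]
  apply (Module.Basis.is_basis_iff_det _).mp
  have hsp : ⊤ ≤ Submodule.span K (Set.range (fam u κ)) := by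
    intro z _
    rw [decomp hv z]
    refine add_mem (Submodule.sum_mem _ fun a _ => Submodule.smul_mem _ _ ?_)
      (Submodule.sum_mem _ fun c _ => Submodule.smul_mem _ _ (Submodule.subset_span ⟨Sum.inr c, rfl⟩))
    refine Submodule.span_mono ?_ (hs (Submodule.subset_span ⟨a, rfl⟩))
    rintro _ ⟨b, rfl⟩
    exact ⟨Sum.inl b, rfl⟩
  exact ⟨linearIndependent_of_top_le_span_of_card_eq_finrank hsp
    (by rw [Module.finrank_eq_card_basis ((stdB (k := k) K d).reindex (eSum hrd))]), top_le_iff.mp hsp⟩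

include H in
theorem mem_chart_of_span {Δ : Data d r n} (hJ : ∀ a, Δ.J a = 0) {L K : Type u} [Field L] [Algebra k L]
    [Field K] [Algebra k K] {q₀ : Fin r × Fin (d - r) → L} (h₀ : IsUnit (dd f g Δ hrd q₀))
    (y : specOver (CommAlgCat.of k K) ⟶ X) (v : Fin r → M (k := k) K d)
    (hu : ∀ i : Fin (n + 1), IsUnit (dt hrd (fun a => path f g K 0 i.val (v a)) (Δ.κ i)))
    (hV : ∀ i, ((E.e (CommAlgCat.of k K) y).1 i).toSubmodule = Submodule.span K (Set.range fun a => path f g K 0 i.val (v a))) :
    y.left (closedPoint K) ∈ Set.range (chart E H Δ hrd) := by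
  classical
  -- the standard vectors complete `κ 0` to a basis
  have hc : LinearIndependent L (fun a => stdB (k := k) L d (Δ.c a)) ∧
      Disjoint (Submodule.span L (Set.range fun a => stdB (k := k) L d (Δ.c a)))
        (Submodule.span L (Set.range fun b => stdB (k := k) L d (Δ.κ 0 b))) := by
    have hw := isUnit_level h₀ 0
    have hsp : Submodule.span L (Set.range (pth f g Δ q₀ 0)) ≤
        Submodule.span L (Set.range (fam (fun a => stdB (k := k) L d (Δ.c a)) (Δ.κ 0))) := by
      rw [Submodule.span_le]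
      rintro _ ⟨a, rfl⟩
      simp only [pth, hJ, wv]
      rw [path_self, Module.End.one_apply]
      exact add_mem (Submodule.subset_span ⟨Sum.inl a, rfl⟩)
        (Submodule.sum_mem _ fun b _ => Submodule.smul_mem _ _ (Submodule.subset_span ⟨Sum.inr b, rfl⟩))
    haveI : Module.Finite L (M (k := k) L d) := Module.Finite.of_basis (stdB L d)
    have htop : ⊤ ≤ Submodule.span L (Set.range (fam (fun a => stdB (k := k) L d (Δ.c a)) (Δ.κ 0))) := by
      intro z _
      rw [decomp hw z]
      exact add_mem (Submodule.sum_mem _ fun a _ => Submodule.smul_mem _ _ (hsp (Submodule.subset_span ⟨a, rfl⟩)))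
        (Submodule.sum_mem _ fun c _ => Submodule.smul_mem _ _ (Submodule.subset_span ⟨Sum.inr c, rfl⟩))
    have hli := linearIndependent_of_top_le_span_of_card_eq_finrank htop
      (by rw [Module.finrank_eq_card_basis ((stdB (k := k) L d).reindex (eSum hrd))])
    rw [fam, linearIndependent_sum] at hli
    exact ⟨hli.1, hli.2.2⟩
  -- the indices form a partition
  have hinj : Function.Bijective (Sum.elim Δ.c (Δ.κ 0)) := by
    have hu0 := hu 0
    rw [Fintype.bijective_iff_injective_and_card]
    refine ⟨?_, by simp; omega⟩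
    rintro (a | b) (a' | b') h <;> simp only [Sum.elim_inl, Sum.elim_inr] at h
    · exact congrArg Sum.inl (hc.1.injective (congrArg (stdB (k := k) L d) h))
    · exact absurd (Submodule.disjoint_def.mp hc.2 _ (Submodule.subset_span ⟨a, rfl⟩)
        (Submodule.subset_span ⟨b', (congrArg (stdB (k := k) L d) h).symm⟩)) (hc.1.ne_zero a)
    · exact absurd (Submodule.disjoint_def.mp hc.2 _ (Submodule.subset_span ⟨a', rfl⟩)
        (Submodule.subset_span ⟨b, congrArg (stdB (k := k) L d) h⟩)) (hc.1.ne_zero a')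
    · refine congrArg Sum.inr (Sum.inr_injective ((bas hu0).injective ?_))
      rw [bas_apply, bas_apply]
      exact congrArg (stdB (k := k) K d) h
  let q : Fin r × Fin (d - r) → K := fun p => -(bas (hu 0)).repr (stdB K d (Δ.c p.1)) (Sum.inr p.2)
  have hw : ∀ a, wv Δ q a ∈ Submodule.span K (Set.range fun a => path f g K 0 (0 : Fin (n + 1)).val (v a)) := by
    intro a
    have hd := decomp (hu 0) (stdB K d (Δ.c a))
    simp only [wv, q, hJ, neg_smul', Finset.sum_neg_distrib]
    rw [← sub_eq_add_neg, sub_eq_of_eq_add hd]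
    exact Submodule.sum_mem _ fun b _ => Submodule.smul_mem _ _ (Submodule.subset_span ⟨b, rfl⟩)
  have hstd : IsUnit (dt hrd (wv (k := k) Δ q) (Δ.κ 0)) := by
    rw [dt]
    apply (Module.Basis.is_basis_iff_det _).mp
    have hsp : ⊤ ≤ Submodule.span K (Set.range (fam (wv (k := k) Δ q) (Δ.κ 0))) := by
      rw [← (stdB (k := k) K d).span_eq, Submodule.span_le]
      rintro _ ⟨j, rfl⟩
      obtain ⟨a | b, rfl⟩ := hinj.2 j
      · rw [Sum.elim_inl, show stdB (k := k) K d (Δ.c a) =
          wv (k := k) Δ q a - ∑ b, q (a, b) • stdB (k := k) K d (Δ.κ 0 b) by simp [wv, hJ]]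
        exact sub_mem (Submodule.subset_span ⟨Sum.inl a, rfl⟩)
          (Submodule.sum_mem _ fun c _ => Submodule.smul_mem _ _ (Submodule.subset_span ⟨Sum.inr c, rfl⟩))
      · exact Submodule.subset_span ⟨Sum.inr b, rfl⟩
    haveI : Module.Finite K (M (k := k) K d) := Module.Finite.of_basis (stdB K d)
    exact ⟨linearIndependent_of_top_le_span_of_card_eq_finrank hsp
      (by rw [Module.finrank_eq_card_basis ((stdB (k := k) K d).reindex (eSum hrd))]), top_le_iff.mp hsp⟩
  have hspan : Submodule.span K (Set.range (wv Δ q)) =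
      Submodule.span K (Set.range fun a => path f g K 0 (0 : Fin (n + 1)).val (v a)) :=
    (congrArg Module.Grassmannian.toSubmodule (grass_unique hstd (grass (hu 0)) hw)).symm
  have hD : IsUnit (dd f g Δ hrd q) := by
    refine IsUnit.prod_iff.mpr fun i _ => isUnit_dt_of_span (hu i) ?_
    rw [Submodule.span_le]
    rintro _ ⟨a, rfl⟩
    have hva : v a ∈ Submodule.span K (Set.range (wv Δ q)) := by
      rw [hspan]; exact Submodule.subset_span ⟨a, by simp [path_self]⟩
    have := Submodule.mem_map_of_mem (f := path f g K 0 i.val) hva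
    rw [Submodule.map_span, ← Set.range_comp] at this
    rw [show pth f g Δ q i = ⇑(path f g K 0 i.val) ∘ wv Δ q from funext fun b => by
      simp only [pth, hJ, Function.comp_apply]; rfl]
    exact this
  refine ⟨Spec.map (CommRingCat.ofHom (classify hD).toRingHom) (closedPoint K), ?_⟩
  rw [comp_of_mem E H y hD fun a => by rw [hV, hJ]; exact hw a]
  rfl

/-- Vectors with indeterminate coordinates. -/
def vgen (k : Type u) [CommRing k] (d r : ℕ) (a : Fin r) :
    M (k := k) (MvPolynomial (Fin r × Fin d) k) d :=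
  ∑ c, (MvPolynomial.X (a, c) : MvPolynomial (Fin r × Fin d) k) • stdB (MvPolynomial (Fin r × Fin d) k) d c

omit [IsDomain k] in
theorem dt_vgen_ne_zero {K : Type u} [Field K] [Algebra k K] {Δ : Data d r n} {q : Fin r × Fin (d - r) → K}
    (hJ : ∀ a, Δ.J a = 0) (hq : IsUnit (dd f g Δ hrd q)) (i : Fin (n + 1)) :
    dt hrd (fun a => path f g (MvPolynomial (Fin r × Fin d) k) 0 i.val (vgen k d r a)) (Δ.κ i) ≠ 0 := by
  intro h0
  let φ : MvPolynomial (Fin r × Fin d) k →ₐ[k] K :=
    MvPolynomial.aeval fun p : Fin r × Fin d => (stdB (k := k) K d).repr (wv (k := k) Δ q p.1) p.2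
  have hv : ∀ a, ch φ (vgen k d r a) = wv Δ q a := fun a => by
    simp only [vgen, map_sum, ch_smul, ch_stdB, φ, MvPolynomial.aeval_X]
    exact (stdB K d).sum_repr _
  have h1 := congrArg φ h0
  rw [map_dt, map_zero] at h1
  refine (isUnit_level hq i).ne_zero ?_
  rw [← h1]
  refine congrArg (fun u => dt hrd u (Δ.κ i)) (funext fun a => ?_)
  rw [ch_path, hv, pth, hJ]
  rfl

theorem isUnit_dt_vgen {K : Type u} [Field K] [Algebra k K] {Δ : Data d r n} {q : Fin r × Fin (d - r) → K}
    (hJ : ∀ a, Δ.J a = 0) (hq : IsUnit (dd f g Δ hrd q)) (i : Fin (n + 1)) :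
    IsUnit (dt hrd (fun a => path f g (FractionRing (MvPolynomial (Fin r × Fin d) k)) 0 i.val
      (ch (IsScalarTower.toAlgHom k _ (FractionRing (MvPolynomial (Fin r × Fin d) k))) (vgen k d r a))) (Δ.κ i)) := by
  have h2 : (fun a => path f g (FractionRing (MvPolynomial (Fin r × Fin d) k)) 0 i.val
      (ch (IsScalarTower.toAlgHom k _ (FractionRing (MvPolynomial (Fin r × Fin d) k))) (vgen k d r a))) =
      fun a => ch (IsScalarTower.toAlgHom k _ _) (path f g (MvPolynomial (Fin r × Fin d) k) 0 i.val (vgen k d r a)) :=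
    funext fun a => (ch_path f g (IsScalarTower.toAlgHom k _ _) 0 i.val (vgen k d r a)).symm
  refine IsUnit.mk0 _ ?_
  rw [h2, ← map_dt]
  exact (map_ne_zero_iff _ (IsFractionRing.injective (MvPolynomial (Fin r × Fin d) k) _)).mpr
    (dt_vgen_ne_zero hrd hJ hq i)

include E H hrd in
/-- For `s ≠ 0` the scheme is irreducible. -/
theorem irreducible_of_ne_zero (hs : s ≠ 0) (hne : Nonempty X.left) : IrreducibleSpace X.left := by
  classical
  have key : ∀ Z₁ ∈ irreducibleComponents X.left, ∀ Z₂ ∈ irreducibleComponents X.left, Z₁ = Z₂ := by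
    intro Z₁ hZ₁ Z₂ hZ₂
    obtain ⟨η₁, hη₁, Δ₁', K₁, i₁, i₁', y₁, hy₁, hinj₁, hm₁'⟩ := component_generic E H hrd hZ₁
    obtain ⟨η₂, hη₂, Δ₂', K₂, i₂, i₂', y₂, hy₂, hinj₂, hm₂'⟩ := component_generic E H hrd hZ₂
    have hs₁ : algebraMap k K₁ s ≠ 0 := (map_ne_zero_iff _ hinj₁).mpr hs
    have hs₂ : algebraMap k K₂ s ≠ 0 := (map_ne_zero_iff _ hinj₂).mpr hs
    obtain ⟨Δ₁, hJ₁, hm₁⟩ := exists_chart_of_exact E H hrd y₁ (isExact_of_ne_zero H hs₁ _)
    obtain ⟨Δ₂, hJ₂, hm₂⟩ := exists_chart_of_exact E H hrd y₂ (isExact_of_ne_zero H hs₂ _)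
    obtain ⟨q₁, hq₁, -⟩ := exists_coords E H y₁ hm₁
    obtain ⟨q₂, hq₂, -⟩ := exists_coords E H y₂ hm₂
    -- the subspace with indeterminate coefficients
    let F : Type u := FractionRing (MvPolynomial (Fin r × Fin d) k)
    let ιF : MvPolynomial (Fin r × Fin d) k →ₐ[k] F := IsScalarTower.toAlgHom k _ _
    have hu₁ : ∀ i, IsUnit (dt hrd (fun a => path f g F 0 i.val (ch ιF (vgen k d r a))) (Δ₁.κ i)) :=
      isUnit_dt_vgen hrd (hJ₁ hs₁) hq₁
    let W : Fin (n + 1) → Module.Grassmannian F (M (k := k) F d) (d - r) := fun i => grass (hu₁ i)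
    have hW : W ∈ W4c1limliniiii.LGPoints k d r n f g F := fun i =>
      map_span_le f g F s H.hI (fun _ : Fin r => 0) (fun a => ch ιF (vgen k d r a)) i
    let y : specOver (CommAlgCat.of k F) ⟶ X := (E.e (CommAlgCat.of k F)).symm ⟨W, hW⟩
    have hy : ∀ i, ((E.e (CommAlgCat.of k F) y).1 i).toSubmodule =
        Submodule.span F (Set.range fun a => path f g F 0 i.val (ch ιF (vgen k d r a))) := fun i => by
      rw [Equiv.apply_symm_apply]; rfl
    have hm1 := mem_chart_of_span E H hrd (hJ₁ hs₁) hq₁ y _ hu₁ hy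
    have hm2 := mem_chart_of_span E H hrd (hJ₂ hs₂) hq₂ y _ (isUnit_dt_vgen hrd (hJ₂ hs₂) hq₂) hy
    have e₁ := (component_chart E H hrd hZ₁ (hy₁ ▸ hη₁.mem) hm₁).1
    have e₂ := (component_chart E H hrd hZ₂ (hy₂ ▸ hη₂.mem) hm₂).1
    have h₁ : y.left (closedPoint F) ∈ Z₁ := by rw [e₁]; exact subset_closure hm1
    have h₂ : y.left (closedPoint F) ∈ Z₂ := by rw [e₂]; exact subset_closure hm2
    rw [(component_chart E H hrd hZ₁ h₁ hm1).1, (component_chart E H hrd hZ₂ h₂ hm1).1]
  obtain ⟨x⟩ := hne
  refine (irreducibleSpace_def _).mpr ?_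
  have heq : irreducibleComponent x = Set.univ := Set.eq_univ_of_forall fun z => by
    rw [key _ (irreducibleComponent_mem_irreducibleComponents x) _ (irreducibleComponent_mem_irreducibleComponents z)]
    exact mem_irreducibleComponent
  rw [Set.top_eq_univ, ← heq]
  exact isIrreducible_irreducibleComponent

end Groth.Agent.LG86

end
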