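import Groth.Agent.LG86.Maps

/-!
# A scheme representing the linked Grassmannian functor
-/

set_option autoImplicit false

universe u

open TensorProduct CategoryTheory AlgebraicGeometry IsLocalRing

noncomputable section

namespace Groth.Agent.LG86

variable {k : Type u} [CommRing k] {d r n : ℕ} (f g : Fin n → ((Fin d → k) →ₗ[k] (Fin d → k)))
  (X : Over (Spec (CommRingCat.of k)))

/-- `Spec A` over `Spec k`. -/
abbrev specOver (A : CommAlgCat.{u} k) : Over (Spec (CommRingCat.of k)) :=
  Over.mk (Spec.map (CommRingCat.ofHom (algebraMap k A)))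

/-- The data identifying `X` with the linked Grassmannian functor. -/
structure Rep where
  e : ∀ A : CommAlgCat.{u} k, (specOver A ⟶ X) ≃ W4c1limliniiii.LGPoints k d r n f g A
  he : ∀ (A B : CommAlgCat.{u} k) (φ : A ⟶ B) (x : specOver A ⟶ X) (x' : specOver B ⟶ X),
    x'.left = Spec.map (CommRingCat.ofHom φ.hom.toRingHom) ≫ x.left →
      ∀ i, (e B x').1 i = Module.Grassmannian.map φ.hom ((e A x).1 i)

variable {f g X} (E : Rep (r := r) f g X)

theorem Rep.eq_comp {A B : CommAlgCat.{u} k} (φ : A ⟶ B) (x : specOver A ⟶ X) (x' : specOver B ⟶ X)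
    (h : ∀ i, (E.e B x').1 i = Module.Grassmannian.map φ.hom ((E.e A x).1 i)) :
    x'.left = Spec.map (CommRingCat.ofHom φ.hom.toRingHom) ≫ x.left := by
  have hw : (Spec.map (CommRingCat.ofHom φ.hom.toRingHom) ≫ x.left) ≫ X.hom =
      Spec.map (CommRingCat.ofHom (algebraMap k B)) := by
    rw [Category.assoc, Over.w x]
    change Spec.map _ ≫ Spec.map _ = _
    rw [← Spec.map_comp]
    congr 1
    ext c
    exact φ.hom.commutes c
  let x'' : specOver B ⟶ X := Over.homMk (Spec.map (CommRingCat.ofHom φ.hom.toRingHom) ≫ x.left) hw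
  have h2 : E.e B x'' = E.e B x' := Subtype.ext (funext fun i => by rw [h i]; exact E.he A B φ x x'' rfl i)
  rw [← (E.e B).injective h2]
  rfl

theorem path_mem_point {A : Type u} [CommRing A] [Algebra k A]
    {V : Fin (n + 1) → Module.Grassmannian A (M (k := k) A d) (d - r)}
    (hV : V ∈ W4c1limliniiii.LGPoints k d r n f g A) {v : M (k := k) A d} (j : Fin (n + 1))
    (hv : v ∈ (V j).toSubmodule) : ∀ i : Fin (n + 1), path f g A j.val i.val v ∈ (V i).toSubmodule := by
  intro i
  rcases le_or_gt j.val i.val with h | h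
  · obtain ⟨t, ht⟩ : ∃ t, i.val = j.val + t := ⟨i.val - j.val, by omega⟩
    clear h
    induction t generalizing i with
    | zero => obtain rfl : i = j := Fin.ext ht; simpa [path_self] using hv
    | succ t ih =>
      let i' : Fin n := ⟨j.val + t, by have := i.isLt; omega⟩
      have hi : i = i'.succ := Fin.ext (by simp [i']; omega)
      have h1 := ih i'.castSucc rfl
      rw [hi, Fin.val_succ, path_succ f g A (by simp [i']), Module.End.mul_apply,
        show ext0 A f i'.val = (f i').baseChange A by simp [ext0]]
      exact (hV i').1 ⟨_, h1, rfl⟩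
  · obtain ⟨t, ht⟩ : ∃ t, j.val = i.val + t := ⟨j.val - i.val, by omega⟩
    clear h
    induction t generalizing i with
    | zero => obtain rfl : i = j := Fin.ext (by omega); simpa [path_self] using hv
    | succ t ih =>
      let i' : Fin n := ⟨i.val, by have := j.isLt; omega⟩
      have hi : i = i'.castSucc := Fin.ext rfl
      have h1 := ih i'.succ (by simp [i']; omega)
      rw [hi, Fin.val_castSucc, path_pred f g A (by simp [i'] at ht ⊢; omega), Module.End.mul_apply,
        show ext0 A g i'.val = (g i').baseChange A by simp [ext0]]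
      exact (hV i').2 ⟨_, h1, rfl⟩

end Groth.Agent.LG86

end
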